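import Groth.Agent.ProjBundleLib.FTSub
import Groth.Agent.ProjBundleLib.Ample
import Groth.Agent.ProjBundleLib.ProjMor
import Groth.Agent.ProjBundleLib.GrSym
import Groth.Agent.ProjBundleLib.Quot
import Groth.Agent.SchDenseLib.Basic
import Groth.Agent.AmpleLib.Pullback
import Groth.Agent.AmpleLib.GenLocus
import Groth.Agent.QCohLib.Push

/-!
# Completing an affine morphism by the bundle of a module of finite type containing given sections
-/

set_option autoImplicit false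
set_option linter.style.haveILetI false
set_option backward.isDefEq.respectTransparency false
set_option maxHeartbeats 1000000

universe u

open CategoryTheory CategoryTheory.Limits AlgebraicGeometry TopologicalSpace Opposite
open Groth.Agent.ParaFLib Groth.Agent.PullbackMod Groth.Agent.DCohLib Groth.Agent.AmpleLib
open Groth.Agent.ProjBundleLib

noncomputable section

namespace Groth.Agent.YBlowLib

variable {X Y : Scheme.{u}}

/-- A family of local sections, one on a covering of a submodule with injective sections, glues. -/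
theorem exists_section_of_cover {F G : X.Modules} (i : G ⟶ F) (hi : ∀ V, Function.Injective (i.app V))
    (σ : Γ(F, ⊤)) {κ : Type u} (V : κ → X.Opens) (hV : ⨆ k, V k = ⊤) (g : ∀ k, Γ(G, V k))
    (hg : ∀ k, i.app (V k) (g k) = F.presheaf.map (homOfLE le_top).op σ) : ∃ e : Γ(G, ⊤), i.app ⊤ e = σ := by
  have hnat : ∀ {A B : X.Opens} (h : B ≤ A) (x : Γ(G, A)),
      i.app B (G.presheaf.map (homOfLE h).op x) = F.presheaf.map (homOfLE h).op (i.app A x) := fun h x =>
    ConcreteCategory.congr_hom (i.mapPresheaf.naturality (homOfLE h).op) x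
  obtain ⟨e, he, -⟩ := TopCat.Sheaf.existsUnique_gluing' (⟨G.presheaf, G.isSheaf⟩ : TopCat.Sheaf Ab X) V ⊤
    (fun k => homOfLE le_top) hV.ge g fun k l => by
      apply hi
      refine (hnat inf_le_left (g k)).trans (Eq.trans ?_ (hnat inf_le_right (g l)).symm)
      rw [hg, hg]
      exact (res_res _ _ σ).trans (res_res _ _ σ).symm
  refine ⟨e, TopCat.Sheaf.eq_of_locally_eq' (⟨F.presheaf, F.isSheaf⟩ : TopCat.Sheaf Ab X) V ⊤
    (fun k => homOfLE le_top) hV.ge _ _ fun k => ?_⟩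
  refine Eq.trans ?_ (hg k)
  refine Eq.trans (hnat (le_top : V k ≤ ⊤) e).symm ?_
  exact congrArg (i.app (V k)) (he k)

/-- An affine morphism has a projective completion with a trivialising section of an ample module, on the
locus of which finitely many prescribed local functions are defined. -/
theorem exists_completion (f : Y ⟶ X) [CompactSpace X] [QuasiSeparatedSpace X] [IsAffineHom f]
    {ι : Type u} [Finite ι] (U : ι → X.Opens) (hU : ∀ a, IsAffineOpen (U a)) (s : ∀ a, Γ(Y, f ⁻¹ᵁ U a)) :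
    ∃ (Q : Scheme.{u}) (fQ : Y ⟶ Q) (g : Q ⟶ X) (L : Q.Modules) (ε : Coh.structureModule Q ⟶ L),
      IsSchemeTheoreticallyDominant fQ ∧ IsProper g ∧ fQ ≫ g = f ∧ RelAmple.IsRelAmple g L ∧
        fQ ⁻¹ᵁ CohB1.genLocus L ε = ⊤ ∧
        ∀ a, ∃ (c : Γ(Q, CohB1.genLocus L ε ⊓ g ⁻¹ᵁ U a))
          (e : f ⁻¹ᵁ U a ≤ fQ ⁻¹ᵁ (CohB1.genLocus L ε ⊓ g ⁻¹ᵁ U a)),
          fQ.appLE (CohB1.genLocus L ε ⊓ g ⁻¹ᵁ U a) (f ⁻¹ᵁ U a) e c = s a := by
  classical
  let O := Coh.structureModule Y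
  haveI : Coh.IsQCoh O := InvExt.isQCoh_of_isInvertible isInvertible_structureModule
  let F := (Scheme.Modules.pushforward f).obj O
  haveI : Coh.IsQCoh F := QCohLib.isQCoh_pushforward O f
  obtain ⟨t, ht⟩ := isCompact_univ.elim_finite_subcover (fun V : X.affineOpens => ((V : X.Opens) : Set X))
    (fun V => (V : X.Opens).2) fun y _ => by
      obtain ⟨_, ⟨V, hV, rfl⟩, hy, -⟩ :=
        X.isBasis_affineOpens.exists_subset_of_mem_open (Set.mem_univ y) isOpen_univ
      exact Set.mem_iUnion.2 ⟨⟨V, hV⟩, hy⟩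
  let U' : ι ⊕ t → X.Opens := Sum.elim U fun V => V.1.1
  obtain ⟨E, i, hE, hft, hinj, hpre⟩ := exists_ft_through (M := F) U'
    (fun a => by cases a with
      | inl a => exact hU a
      | inr V => exact V.1.2)
    (fun a => match a with
      | .inl a => (show Γ(F, U a) from (s a : Γ(Y, f ⁻¹ᵁ U a)))
      | .inr V => (show Γ(F, V.1.1) from (1 : Γ(Y, f ⁻¹ᵁ V.1.1))))
  choose g₀ hg₀ using hpre
  haveI := hE
  obtain ⟨e, he⟩ := exists_section_of_cover i hinj (show Γ(F, ⊤) from (1 : Γ(Y, f ⁻¹ᵁ ⊤))) (fun V : t => V.1.1)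
    (eq_top_iff.2 fun x _ => by
      obtain ⟨V, hVt, hx⟩ := Set.mem_iUnion₂.1 (ht (Set.mem_univ x))
      exact Opens.mem_iSup.2 ⟨⟨V, hVt⟩, hx⟩)
    (fun V => g₀ (.inr V))
    fun V => (hg₀ (.inr V)).trans (map_one (Y.presheaf.map (homOfLE (f.preimage_mono le_top)).op).hom).symm
  have hbij : ∀ (y : Y) (hy : f y ∈ (⊤ : X.Opens)),
      Function.Bijective fun c : Y.presheaf.stalk y => c • germφ i y hy e := fun y hy => by
    unfold germφ
    rw [he]
    exact (gen_one (f ⁻¹ᵁ (⊤ : X.Opens))).bijective_germ y hy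
  obtain ⟨P, p, O1, φ, ⟨D⟩⟩ := exists_bundle hE
  haveI := D.isProper hft
  obtain ⟨k, hk, -⟩ := D.existsUnique_compat_of_gens (g := f) isInvertible_structureModule (σ := i)
    fun y => ⟨⊤, trivial, e, hbij y trivial⟩
  have hkp : k ≫ p = f := hk.1.trans (Category.id_comp f)
  let σ₀ : Γ(O1, ⊤) := φ.app ⊤ e
  let s₀ := secHom O1 σ₀
  have hO1 := D.isInvertible_O1
  have hmem : ∀ z : P, z ∈ CohB1.genLocus O1 s₀ ↔
      Function.Bijective fun c : P.presheaf.stalk z => c • germφ φ z (show p z ∈ (⊤ : X.Opens) from trivial) e :=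
    fun z => by
      rw [mem_genLocus_iff hO1, sec_secHom]
      rfl
  have hkZ : k ⁻¹ᵁ CohB1.genLocus O1 s₀ = ⊤ := eq_top_iff.2 fun y _ =>
    (hmem (k y)).2 ((hk.2 ⊤ e y trivial trivial).1.2 (hbij y trivial))
  have hfQ : k.toImage ≫ k.imageι = k := k.toImage_imageι
  have hι : ∀ z : k.image, p (k.imageι z) = (k.imageι ≫ p) z := fun z => rfl
  refine ⟨k.image, k.toImage, k.imageι ≫ p, (Scheme.Modules.pullback k.imageι).obj O1, pullS k.imageι s₀,
    SchDenseLib.toImage_dominant k, inferInstance, by rw [← Category.assoc, hfQ, hkp],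
    D.isRelAmple_pullback k.imageι rfl k.imageι.isEmbedding.isInducing, ?_, fun a => ?_⟩
  · rw [genLocus_pullS _ hO1, ← Scheme.Hom.comp_preimage, hfQ, hkZ]
  set Z := CohB1.genLocus _ (pullS k.imageι s₀) with hZdef
  let eU := E.presheaf.map (homOfLE (le_top : U a ≤ ⊤)).op e
  have hdpl : Z ⊓ (k.imageι ≫ p) ⁻¹ᵁ U a = k.imageι ⁻¹ᵁ D.DPl (hU a) eU := by
    rw [hZdef, genLocus_pullS _ hO1]
    ext z
    refine ⟨fun hz => (D.mem_DPl_iff (hU a) eU hz.2).2 ?_, fun hz => ⟨(hmem _).2 ?_, D.DPl_le (hU a) eU hz⟩⟩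
    · rw [germφ_res]
      exact (hmem _).1 hz.1
    · have h := D.bijective_germφ (hU a) eU hz
      rwa [germφ_res] at h
  have hle : f ⁻¹ᵁ U a ≤ k ⁻¹ᵁ D.DPl (hU a) eU := fun y hy => by
    have h1 : k.toImage y ∈ Z ⊓ (k.imageι ≫ p) ⁻¹ᵁ U a := by
      refine ⟨?_, ?_⟩
      · rw [hZdef, genLocus_pullS _ hO1]
        show k.imageι (k.toImage y) ∈ CohB1.genLocus O1 s₀
        rw [← Scheme.Hom.comp_apply, hfQ]
        exact hkZ.ge (show y ∈ (⊤ : Y.Opens) from trivial)
      · show (k.imageι ≫ p) (k.toImage y) ∈ U a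
        rw [← Scheme.Hom.comp_apply, ← Category.assoc, hfQ, hkp]
        exact hy
    rw [hdpl] at h1
    have h2 : k.imageι (k.toImage y) ∈ D.DPl (hU a) eU := h1
    rw [← Scheme.Hom.comp_apply, hfQ] at h2
    exact h2
  have hle' : f ⁻¹ᵁ U a ≤ k.toImage ⁻¹ᵁ (Z ⊓ (k.imageι ≫ p) ⁻¹ᵁ U a) := by
    rw [hdpl, ← Scheme.Hom.comp_preimage, hfQ]
    exact hle
  refine ⟨k.imageι.appLE (D.DPl (hU a) eU) _ hdpl.le (D.coord (hU a) eU (g₀ (.inl a))), hle', ?_⟩
  have h1 := appLE_coord_smul (q := f) D hk (hU a) eU (g₀ (.inl a)) hle le_rfl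
  have h0 : i.app (U a) (g₀ (.inl a)) = (show Γ(F, U a) from (s a : Γ(Y, f ⁻¹ᵁ U a))) := hg₀ (.inl a)
  erw [h0] at h1
  have h2 : i.app (U a) eU = (show Γ(F, U a) from (1 : Γ(Y, f ⁻¹ᵁ U a))) := by
    refine (ConcreteCategory.congr_hom (i.mapPresheaf.naturality (homOfLE (le_top : U a ≤ ⊤)).op) e).trans ?_
    show F.presheaf.map _ (i.app ⊤ e) = _
    rw [he]
    exact map_one (Y.presheaf.map (homOfLE (f.preimage_mono le_top)).op).hom
  rw [h2] at h1
  erw [ParaFLib.res_self, ParaFLib.res_self] at h1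
  rw [← CommRingCat.comp_apply, Scheme.Hom.appLE_comp_appLE]
  refine Eq.trans ?_ h1
  refine Eq.trans ?_ (mul_one _).symm
  simp only [hfQ]

end Groth.Agent.YBlowLib
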