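import Groth.Agent.AmpleFamLib.Blow
import Groth.Agent.AmpleEmb.ComposeRel
import Groth.Agent.FBlowLib.ExtIdeal

/-!
# An ample module with a section on a blow-up with centre outside the locus of an ample section
-/

set_option autoImplicit false
set_option linter.style.haveILetI false
set_option backward.isDefEq.respectTransparency false
set_option maxHeartbeats 1000000

universe u

open CategoryTheory CategoryTheory.Limits AlgebraicGeometry TopologicalSpace Opposite
open Groth.Agent.ParaFLib Groth.Agent.PullbackMod Groth.Agent.DCohLib Groth.Agent.AmpleLib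
open Groth.Agent.BlowExistsLib

noncomputable section

namespace Groth.Agent.YBlowLib

/-- An ideal with support outside an open has a section of its module invertible on it. -/
theorem exists_unit_section {T : Scheme.{u}} (K : T.IdealSheafData) (C : T.Opens) (hK : ∀ x ∈ C, x ∉ K.support) :
    ∃ t : Coh.structureModule (C : Scheme.{u}) ⟶ (ClSub.idealMod K).restrict C.ι,
      CohB1.genLocus _ t = ⊤ := by
  have hideal : ∀ V : T.affineOpens, V.1 ≤ C → K.ideal V = ⊤ := fun V e =>
    FBlowLib.ideal_eq_top_of_disjoint K V fun x hx => hK x (e hx)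
  obtain ⟨σ, hσ⟩ := AmpleFamLib.exists_section_of_mem K C 1 fun V e => by rw [hideal V e]; trivial
  refine ⟨secHom _ (AmpleFamLib.restrictSect C (ClSub.idealMod K) σ), eq_top_iff.2 fun z _ => ?_⟩
  obtain ⟨_, ⟨V, hV, rfl⟩, hzV, hVC⟩ := T.isBasis_affineOpens.exists_subset_of_mem_open z.2 C.2
  have hle : V ≤ C := hVC
  have hg : Gen V ((ClSub.idealMod K).presheaf.map (homOfLE hle).op σ) := by
    refine AmpleFamLib.gen_of_generator K ⟨V, hV⟩ _ ?_ ?_
    · rw [S8914.idealSect_res, hσ, map_one]
      exact one_mem _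
    · rw [hideal ⟨V, hV⟩ hle, S8914.idealSect_res, hσ, map_one, Ideal.span_singleton_one]
  have him : C.ι ''ᵁ (C.ι ⁻¹ᵁ V) ≤ V := by rintro _ ⟨y, hy, rfl⟩; exact hy
  refine mem_genLocus_iff'.2 ⟨C.ι ⁻¹ᵁ V, hzV, ?_⟩
  have key := (AmpleFamLib.gen_restrictSect_iff C (ClSub.idealMod K) σ (C.ι ⁻¹ᵁ V) (him.trans hle)).2 (by
    have := hg.res him
    rw [res_res] at this
    exact this)
  exact key

/-- Above the locus of a section of a relatively ample module, a blow-up with centre outside the locus again has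
such a module. -/
theorem exists_twist {X Q Q' : Scheme.{u}} [CompactSpace X] [QuasiSeparatedSpace X] (g : Q ⟶ X) [IsProper g]
    {L : Q.Modules} (ε : Coh.structureModule Q ⟶ L) (hL : RelAmple.IsRelAmple g L)
    {𝓘 : Q.IdealSheafData} (b : Q' ⟶ Q) (hb : BlowUp.IsBlowUp b 𝓘) (hft : BlowUp.IsFiniteTypeIdeal 𝓘)
    (hdis : Disjoint (𝓘.support : Set Q) (CohB1.genLocus L ε : Set Q)) :
    ∃ (M : Q'.Modules) (η : Coh.structureModule Q' ⟶ M),
      RelAmple.IsRelAmple (b ≫ g) M ∧ b ⁻¹ᵁ CohB1.genLocus L ε ≤ CohB1.genLocus M η := by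
  haveI := isProper_of_FG hb hft
  haveI : CompactSpace Q := QuasiCompact.compactSpace_of_compactSpace g
  haveI : CompactSpace Q' := QuasiCompact.compactSpace_of_compactSpace b
  haveI : QuasiSeparatedSpace Q := quasiSeparatedSpace_of_quasiSeparated g
  haveI : QuasiSeparatedSpace Q' := quasiSeparatedSpace_of_quasiSeparated b
  have hLi := isInvertible_of_isRelAmple hL
  let J := ClSub.idealMod (𝓘.comap b)
  have hJ : RelAmple.IsRelAmple b J := ⟨inferInstance, fun U => AmpleFamLib.ampleOn_preimage hb hft U⟩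
  have hJi := isInvertible_of_isRelAmple hJ
  let P := (Scheme.Modules.pullback b).obj L
  have hP : PicF.IsInvertible P := isInvertible_pullback b hLi
  let C := CohB1.genLocus P (pullS b ε)
  obtain ⟨t, ht⟩ := exists_unit_section (𝓘.comap b) C fun x hx hxs => by
    rw [Scheme.IdealSheafData.support_comap] at hxs
    have hx' : b x ∈ CohB1.genLocus L ε := (genLocus_pullS b hLi ε).le hx
    exact Set.disjoint_left.1 hdis hxs hx'
  obtain ⟨k, hk⟩ := AmpleEmb.exists_section_genLocus hJi hP (pullS b ε) t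
  obtain ⟨N, hN⟩ := AmpleEmb.eventually_isRelAmple_comp b g hJ hL
  obtain ⟨Ξ, hΞ⟩ := hk (k + N) (Nat.le_add_right k N)
  let e : CohB1.tensorMod (CohB1.tensorMod J (CohB1.tensorPow P (k + N))) P ≅
      CohB1.tensorMod J ((Scheme.Modules.pullback b).obj (CohB1.tensorPow L (k + N + 1))) :=
    assoc _ _ _ ≪≫ tIso (Iso.refl J)
      (tIso (Iso.refl _) (powOne P).symm ≪≫ (powAdd P (k + N) 1).symm ≪≫ (pullPow b L (k + N + 1)).symm)
  refine ⟨_, Ξ ≫ e.hom, hN (k + N + 1) (by omega), ?_⟩
  rw [genLocus_comp_iso, hΞ, ht, Scheme.Opens.ι_image_top]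
  exact (genLocus_pullS b hLi ε).ge

end Groth.Agent.YBlowLib
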