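import Groth.Agent.YBlowLib.Factor
import Groth.Agent.YBlowLib.Twist
import Groth.Agent.RGBlowLib.Section
import Groth.Agent.RGBlowLib.NearClosure
import Groth.Agent.S17892
import Groth.Agent.BlowCompLib.Basic

/-!
# Y-blow-ups dominate Y-modifications
-/

set_option autoImplicit false
set_option linter.style.haveILetI false
set_option backward.isDefEq.respectTransparency false
set_option maxHeartbeats 1000000

universe u

open CategoryTheory CategoryTheory.Limits AlgebraicGeometry TopologicalSpace Opposite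
open Groth.Agent.AmpleLib

noncomputable section

namespace Groth.Agent.YBlowLib

/-- Two morphisms into a source which agree below and land where the morphism is invertible agree. -/
theorem eq_of_isIso_restrict {A W S : Scheme.{u}} (φ : W ⟶ S) (U : S.Opens) [IsIso (φ ∣_ U)] (a b : A ⟶ W)
    (h : a ≫ φ = b ≫ φ) (hU : ∀ x, (a ≫ φ) x ∈ U) : a = b := by
  have ha : Set.range a.base ⊆ Set.range (φ ⁻¹ᵁ U).ι.base := by
    rintro _ ⟨x, rfl⟩
    rw [Scheme.Opens.range_ι]
    exact hU x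
  have hb : Set.range b.base ⊆ Set.range (φ ⁻¹ᵁ U).ι.base := by
    rintro _ ⟨x, rfl⟩
    rw [Scheme.Opens.range_ι]
    have := hU x
    rw [h] at this
    exact this
  rw [← IsOpenImmersion.lift_fac _ a ha, ← IsOpenImmersion.lift_fac _ b hb]
  refine congrArg (· ≫ _) ((cancel_mono (φ ∣_ U)).1 ((cancel_mono U.ι).1 ?_))
  rw [Category.assoc, Category.assoc, morphismRestrict_ι, IsOpenImmersion.lift_fac_assoc,
    IsOpenImmersion.lift_fac_assoc, h]

/-- A proper modification is dominated by a blow-up of the affine morphism. -/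
theorem exists_dominating_blowUp {X Y : Scheme.{u}} (f : Y ⟶ X)
    [CompactSpace X] [QuasiSeparatedSpace X] [IsAffineHom f]
    {X' : Scheme.{u}} (f' : Y ⟶ X') (g' : X' ⟶ X) [IsProper g'] (hf' : f' ≫ g' = f) :
    ∃ (X₁ : Scheme.{u}) (f₁ : Y ⟶ X₁) (g₁ : X₁ ⟶ X) (d : X₁ ⟶ X'),
      (IsSchemeTheoreticallyDominant f₁ ∧ IsProper g₁ ∧ f₁ ≫ g₁ = f ∧
        ∃ (L : X₁.Modules) (ε : Coh.structureModule X₁ ⟶ L),
          RelAmple.IsRelAmple g₁ L ∧ IsIso ((Scheme.Modules.pullback f₁).map ε)) ∧ f₁ ≫ d = f' ∧ d ≫ g' = g₁ := by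
  obtain ⟨Q, fQ, g, L, ε, -, hg, hfQ, hL, hloc, τ, fZ, hfZ, hτ, hfτ⟩ := exists_completion_over f f' g' hf'
  haveI := hg
  haveI : CompactSpace Q := QuasiCompact.compactSpace_of_compactSpace g
  haveI : QuasiSeparatedSpace Q := quasiSeparatedSpace_of_quasiSeparated g
  have hLi := isInvertible_of_isRelAmple hL
  let Z := CohB1.genLocus L ε
  haveI : IsAffineHom Z.ι := isAffineHom_genLocus_ι hLi ε
  haveI : CompactSpace (Z : Scheme.{u}) := QuasiCompact.compactSpace_of_compactSpace Z.ι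
  have hZc : IsCompact (Z : Set Q) := isCompact_iff_compactSpace.2 ‹_›
  let s : (Z : Scheme.{u}) ⟶ pullback g' g := pullback.lift τ Z.ι hτ
  have hs : s ≫ pullback.snd g' g = Z.ι := pullback.lift_snd _ _ _
  haveI : QuasiCompact (s ≫ pullback.snd g' g) := by rw [hs]; infer_instance
  haveI : QuasiCompact s := QuasiCompact.of_comp s (pullback.snd g' g)
  let φ := s.imageι ≫ pullback.snd g' g
  haveI : IsIso (φ ∣_ Z) := RGBlowLib.isIso_image_restrict (pullback.snd g' g) Z s hs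
  haveI : IsProper φ := inferInstance
  obtain ⟨𝓘, S', b, hb, hadm, h, hh⟩ := RGBlowLib.exists_dominating φ Z hZc
  haveI := BlowExistsLib.isProper_of_FG hb hadm.1
  have hZC : Z ≤ 𝓘.support.compl := fun z hz hzs => Set.disjoint_left.1 hadm.2 hzs hz
  haveI := BlowCompLib.isIso_restrict 𝓘 b hb
  haveI : IsIso (b ∣_ Z) := RGBlowLib.isIso_restrict_of_le b hZC
  obtain ⟨M, η, hM, hη⟩ := exists_twist g ε hL b hb hadm.1 hadm.2
  let f₀ : Y ⟶ S' := fZ ≫ inv (b ∣_ Z) ≫ (b ⁻¹ᵁ Z).ι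
  have hf₀ : f₀ ≫ b = fQ := by
    simp only [f₀, Category.assoc]
    rw [← morphismRestrict_ι, IsIso.inv_hom_id_assoc]
    exact hfZ
  have hmemZ : ∀ y, fQ y ∈ Z := fun y => hloc.ge (show y ∈ (⊤ : Y.Opens) from trivial)
  have hh0 : f₀ ≫ h = fZ ≫ s.toImage := by
    have e : (f₀ ≫ h) ≫ φ = fQ := by rw [Category.assoc, hh, hf₀]
    refine eq_of_isIso_restrict φ Z _ _ (e.trans ?_) fun y => e ▸ hmemZ y
    rw [Category.assoc]
    show fQ = fZ ≫ s.toImage ≫ s.imageι ≫ pullback.snd g' g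
    rw [Scheme.Hom.toImage_imageι_assoc, hs, hfZ]
  refine ⟨f₀.image, f₀.toImage, f₀.imageι ≫ b ≫ g, f₀.imageι ≫ h ≫ s.imageι ≫ pullback.fst g' g,
    ⟨SchDenseLib.toImage_dominant f₀, inferInstance, ?_, _, pullS f₀.imageι η, ?_, ?_⟩, ?_, ?_⟩
  · rw [Scheme.Hom.toImage_imageι_assoc, ← Category.assoc, hf₀, hfQ]
  · have hqa : Mor2.IsQuasiAffine f₀.imageι := ⟨inferInstance, fun V hV => by
      haveI : IsAffine (f₀.imageι ⁻¹ᵁ V : Scheme.{u}) := hV.preimage f₀.imageι
      infer_instance⟩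
    exact isRelAmple_pullback_quasiAffine f₀.imageι hqa hM
  · have hMi := isInvertible_of_isRelAmple hM
    rw [S17892.isIso_map_iff f₀.toImage (isInvertible_pullback _ hMi), genLocus_pullS _ hMi,
      ← Scheme.Hom.comp_preimage, Scheme.Hom.toImage_imageι, eq_top_iff]
    intro y _
    refine hη ?_
    show (b (f₀ y)) ∈ Z
    rw [← Scheme.Hom.comp_apply, hf₀]
    exact hmemZ y
  · rw [Scheme.Hom.toImage_imageι_assoc, reassoc_of% hh0, Scheme.Hom.toImage_imageι_assoc]
    show fZ ≫ s ≫ _ = f'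
    rw [pullback.lift_fst, hfτ]
  · simp only [Category.assoc, pullback.condition]
    rw [← reassoc_of% hh]
    simp only [φ, Category.assoc]

end Groth.Agent.YBlowLib
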