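import Groth.Agent.ProjBundleLib.FTSub
import Groth.Agent.AmpleEmb.Immersion

/-!
# Immersion into a bundle from generating ratios on affine loci
-/

set_option autoImplicit false
set_option linter.style.haveILetI false
set_option backward.isDefEq.respectTransparency false
set_option maxHeartbeats 1000000

universe u

open CategoryTheory CategoryTheory.Limits AlgebraicGeometry TopologicalSpace Opposite
open Groth.Agent.ProjBundleLib
open Groth.Agent.ParaFLib (Gen res_self)

noncomputable section

namespace Groth.Agent.YBlowLib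

/-- A compatible morphism is an immersion if on affine loci covering the source the ratios generate. -/
theorem isImmersion_of_ratios {X P T : Scheme.{u}} {p : P ⟶ X} {E : X.Modules} {O1 : P.Modules}
    {φ : E ⟶ (Scheme.Modules.pushforward p).obj O1} (D : PData p E O1 φ) {g : T ⟶ X} {L : T.Modules}
    {σ : E ⟶ (Scheme.Modules.pushforward g).obj L} {k : T ⟶ P} (hk : Compat φ σ (𝟙 T) k)
    {κ : Type u} (U : κ → X.Opens) (hU : ∀ j, IsAffineOpen (U j)) (A : κ → T.Opens) (hA : ∀ j, IsAffineOpen (A j))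
    (hAU : ∀ j, A j ≤ g ⁻¹ᵁ U j) (hcov : ∀ x : T, ∃ j, x ∈ A j) (n : κ → ℕ)
    (m : ∀ j, Fin (n j + 1) → Γ(E, U j)) (i : ∀ j, Fin (n j + 1))
    (hiff : ∀ j (x : T) (hx : x ∈ g ⁻¹ᵁ U j), x ∈ A j ↔
      Function.Bijective fun c : T.presheaf.stalk x => c • germφ σ x hx (m j (i j)))
    (r : ∀ j, Fin (n j + 1) → Γ(T, A j))
    (hr : ∀ j a, r j a • L.presheaf.map (homOfLE (hAU j)).op (σ.app (U j) (m j (i j))) =
      L.presheaf.map (homOfLE (hAU j)).op (σ.app (U j) (m j a)))
    (hcl : ∀ j, Subring.closure (Set.range (g.appLE (U j) (A j) (hAU j)).hom ∪ Set.range (r j)) = ⊤) :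
    IsImmersion k := by
  have hkp : k ≫ p = g := hk.1.trans (Category.id_comp g)
  have hmem : ∀ j (x : T), k x ∈ D.DPl (hU j) (m j (i j)) ↔ x ∈ A j := fun j x => by
    constructor
    · intro h
      have hy : p (k x) ∈ U j := D.DPl_le _ _ h
      have hx : g x ∈ U j := by rw [← hkp, Scheme.Hom.comp_apply]; exact hy
      exact (hiff j x hx).2 ((hk.2 (U j) (m j (i j)) x hy hx).1.1 ((D.mem_DPl_iff (hU j) _ hy).1 h))
    · intro h
      have hx : g x ∈ U j := hAU j h
      have hy : p (k x) ∈ U j := by rw [← Scheme.Hom.comp_apply, hkp]; exact hx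
      exact (D.mem_DPl_iff (hU j) _ hy).2 ((hk.2 (U j) (m j (i j)) x hy hx).1.2 ((hiff j x hx).1 h))
  have hpre : ∀ j, k ⁻¹ᵁ D.DPl (hU j) (m j (i j)) = A j := fun j => Opens.ext (Set.ext (hmem j))
  refine ProjBundleLib.isImmersion_of_cover k (fun j => D.DPl (hU j) (m j (i j)))
    (fun x => (hcov x).imp fun j hj => (hmem j x).2 hj) fun j => ?_
  haveI := AmpleEmb.isClosedImmersion_morphismRestrict_of_surjective k (hpre j)
    (D.isAffineOpen_DPl (hU j) (m j (i j))) (hA j) (by
    let ρ := k.appLE (D.DPl (hU j) (m j (i j))) (A j) (hpre j).ge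
    intro z
    have hz : z ∈ Subring.closure (Set.range (g.appLE (U j) (A j) (hAU j)).hom ∪ Set.range (r j)) :=
      (hcl j).ge (Subring.mem_top z)
    refine (Subring.closure_le (t := ρ.hom.range)).2 ?_ hz
    rintro _ (⟨c, rfl⟩ | ⟨a, rfl⟩)
    · refine ⟨p.appLE (U j) _ (D.DPl_le (hU j) (m j (i j))) c, ?_⟩
      show (p.appLE _ _ _ ≫ k.appLE _ _ _) c = _
      rw [Scheme.Hom.appLE_comp_appLE]
      simp only [hkp]
    · refine ⟨D.coord (hU j) (m j (i j)) (m j a), ?_⟩
      have hgen : Gen (A j) (L.presheaf.map (homOfLE (hAU j)).op (σ.app (U j) (m j (i j)))) :=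
        AmpleLib.gen_of_germ fun x hx => by
          erw [TopCat.Presheaf.germ_res_apply L.presheaf (homOfLE (hAU j)) x hx]
          exact (hiff j x (hAU j hx)).1 hx
      refine (show Function.Injective fun a : Γ(T, A j) =>
        a • L.presheaf.map (homOfLE (hAU j)).op (σ.app (U j) (m j (i j))) from ?_) ?_
      · have h2 := (hgen (A j) le_rfl).1
        intro x y hxy
        simp only [res_self] at h2
        exact h2 hxy
      · exact (appLE_coord_smul D hk (hU j) (m j (i j)) (m j a) (hpre j).ge (hAU j)).trans (hr j a).symm)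
  infer_instance

end Groth.Agent.YBlowLib
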