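import Mathlib
import Groth.Agent.SchDenseLib.Basic

/-!
# The scheme-theoretic image over an open
-/

set_option autoImplicit false
set_option linter.style.haveILetI false
set_option backward.isDefEq.respectTransparency false
set_option maxHeartbeats 1000000

universe u

open CategoryTheory CategoryTheory.Limits AlgebraicGeometry TopologicalSpace

noncomputable section

namespace Groth.Agent.YBlowLib

/-- A closed subscheme over an open through which the morphism factors dominantly is the image there. -/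
theorem exists_image_open {Y P T W : Scheme.{u}} (k : Y ⟶ P) [QuasiCompact k] (O : P.Opens) (j : T ⟶ O)
    [IsClosedImmersion j] (f' : W ⟶ T) [IsSchemeTheoreticallyDominant f'] (e : W ⟶ (k ⁻¹ᵁ O : Y.Opens))
    [IsIso e] (he : e ≫ (k ∣_ O) = f' ≫ j) :
    ∃ r : T ⟶ k.image, IsOpenImmersion r ∧ Set.range r = (k.imageι ⁻¹ᵁ O : k.image.Opens) ∧
      r ≫ k.imageι = j ≫ O.ι ∧ f' ≫ r = e ≫ (k ⁻¹ᵁ O).ι ≫ k.toImage := by
  let R : ((k.imageι ⁻¹ᵁ O : k.image.Opens) : Scheme.{u}) ⟶ (O : Scheme.{u}) := k.imageι ∣_ O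
  haveI : IsClosedImmersion R := IsZariskiLocalAtTarget.restrict (P := @IsClosedImmersion) inferInstance O
  haveI := SchDenseLib.toImage_dominant k
  haveI : QuasiCompact (k.toImage ≫ k.imageι) := by rw [k.toImage_imageι]; infer_instance
  haveI : QuasiCompact k.toImage := QuasiCompact.of_comp k.toImage k.imageι
  haveI : IsSchemeTheoreticallyDominant (k.toImage ∣_ (k.imageι ⁻¹ᵁ O)) :=
    IsSchemeTheoreticallyDominant.of_isPullback (f := k.toImage) (g := (k.imageι ⁻¹ᵁ O).ι)
      (isPullback_morphismRestrict k.toImage (k.imageι ⁻¹ᵁ O)).flip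
  have hker : R.ker = j.ker := by
    have h1 : (k ∣_ O).ker = j.ker := by
      rw [← Scheme.Hom.ker_comp_of_isIso e (k ∣_ O), he, Scheme.Hom.ker_comp, f'.ker_eq_bot,
        Scheme.IdealSheafData.map_bot]
    rw [← h1]
    have h2 : ∀ (g : Y ⟶ P), g = k.toImage ≫ k.imageι → R.ker = (g ∣_ O).ker := by
      rintro g rfl
      rw [morphismRestrict_comp, Scheme.Hom.ker_comp, (k.toImage ∣_ _).ker_eq_bot,
        Scheme.IdealSheafData.map_bot]
    exact h2 k k.toImage_imageι.symm
  let r₀ := IsClosedImmersion.lift R j hker.le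
  let r₁ := IsClosedImmersion.lift j R hker.ge
  have hr₀ : r₀ ≫ R = j := IsClosedImmersion.lift_fac _ _ _
  have hr₁ : r₁ ≫ j = R := IsClosedImmersion.lift_fac _ _ _
  haveI : IsIso r₀ := ⟨r₁, by rw [← cancel_mono j, Category.assoc, hr₁, hr₀, Category.id_comp],
    by rw [← cancel_mono R, Category.assoc, hr₀, hr₁, Category.id_comp]⟩
  refine ⟨r₀ ≫ (k.imageι ⁻¹ᵁ O).ι, inferInstance, ?_, ?_, ?_⟩
  · rw [Scheme.Hom.comp_base, TopCat.coe_comp, Set.range_comp,
      Set.range_eq_univ.2 (ConcreteCategory.bijective_of_isIso r₀.base).2, Set.image_univ, Scheme.Opens.range_ι]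
  · rw [Category.assoc, ← morphismRestrict_ι, ← Category.assoc]
    exact congrArg (· ≫ O.ι) hr₀
  · rw [← cancel_mono k.imageι]
    simp only [Category.assoc, Scheme.Hom.toImage_imageι]
    rw [← morphismRestrict_ι k.imageι O, ← morphismRestrict_ι k O, reassoc_of% he]
    exact congrArg (f' ≫ ·) (by rw [← Category.assoc]; exact congrArg (· ≫ O.ι) hr₀)

end Groth.Agent.YBlowLib
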