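import Groth.Agent.YBlowLib.RestrictCompat
import Groth.Agent.YBlowLib.ChartImm
import Groth.Agent.YBlowLib.ImageOpen
import Groth.Agent.YBlowLib.Completion
import Groth.Agent.DCohLib.QCohAbelian
import Groth.Agent.QCohLib.Exact

/-!
# Blow-ups of an affine morphism over an open extend
-/

set_option autoImplicit false
set_option linter.style.haveILetI false
set_option backward.isDefEq.respectTransparency false
set_option maxHeartbeats 2000000

universe u

open CategoryTheory CategoryTheory.Limits AlgebraicGeometry TopologicalSpace Opposite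
open Groth.Agent.AmpleLib Groth.Agent.PullbackMod Groth.Agent.ProjBundleLib Groth.Agent.DCohLib
open Groth.Agent.ParaFLib (Gen gen_one isInvertible_structureModule)

noncomputable section

namespace Groth.Agent.YBlowLib

/-- A section of the kernel of the difference of two maps. -/
theorem exists_pair_section {X : Scheme.{u}} {A B C : X.Modules} (a : A ⟶ C) (b : B ⟶ C) (U : X.Opens)
    (x : Γ(A, U)) (y : Γ(B, U)) (h : a.app U x = b.app U y) :
    ∃ z : Γ(kernel (biprod.desc a (-b)), U),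
      (kernel.ι (biprod.desc a (-b)) ≫ biprod.fst).app U z = x ∧
        (kernel.ι (biprod.desc a (-b)) ≫ biprod.snd).app U z = y := by
  let w : Γ(A ⊞ B, U) := (biprod.inl : A ⟶ A ⊞ B).app U x + (biprod.inr : B ⟶ A ⊞ B).app U y
  have key : ∀ {D : X.Modules} (q : A ⊞ B ⟶ D),
      q.app U w = (biprod.inl ≫ q).app U x + (biprod.inr ≫ q).app U y := fun q => map_add _ _ _
  obtain ⟨z, hz⟩ := QCohLib.kernel_app_exact (biprod.desc a (-b)) U w (by
    rw [key, biprod.inl_desc, biprod.inr_desc]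
    show a.app U x + -(b.app U y) = 0
    rw [h, add_neg_cancel])
  refine ⟨z, ?_, ?_⟩
  · show (biprod.fst : A ⊞ B ⟶ A).app U ((kernel.ι (biprod.desc a (-b))).app U z) = x
    rw [hz, key, biprod.inl_fst, biprod.inr_fst]
    show x + 0 = x
    rw [add_zero]
  · show (biprod.snd : A ⊞ B ⟶ B).app U ((kernel.ι (biprod.desc a (-b))).app U z) = y
    rw [hz, key, biprod.inl_snd, biprod.inr_snd]
    show 0 + y = y
    rw [zero_add]

/-- A blow-up of an affine morphism over a quasi-compact open extends to the whole base. -/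
theorem exists_extension {X Y : Scheme.{u}} (f : Y ⟶ X)
    [CompactSpace X] [QuasiSeparatedSpace X] [IsAffineHom f]
    (V : X.Opens) (hV : IsCompact (V : Set X))
    {X' : Scheme.{u}} (f' : ↑(f ⁻¹ᵁ V) ⟶ X') (g' : X' ⟶ ↑V) [IsSchemeTheoreticallyDominant f'] [IsProper g']
    (hfg : f' ≫ g' = (f ∣_ V)) {L₀ : X'.Modules} (ε₀ : Coh.structureModule X' ⟶ L₀)
    (hL₀ : RelAmple.IsRelAmple g' L₀) (hε₀ : IsIso ((Scheme.Modules.pullback f').map ε₀)) :
    ∃ (X₁ : Scheme.{u}) (f₁ : Y ⟶ X₁) (g₁ : X₁ ⟶ X) (r : X' ⟶ X₁),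
      (IsSchemeTheoreticallyDominant f₁ ∧ IsProper g₁ ∧ f₁ ≫ g₁ = f ∧
        ∃ (L : X₁.Modules) (ε : Coh.structureModule X₁ ⟶ L),
          RelAmple.IsRelAmple g₁ L ∧ IsIso ((Scheme.Modules.pullback f₁).map ε)) ∧ IsOpenImmersion r ∧
      Set.range (fun x => r x) = (g₁ ⁻¹ᵁ V : Set X₁) ∧ r ≫ g₁ = g' ≫ V.ι ∧ f' ≫ r = (f ⁻¹ᵁ V).ι ≫ f₁ := by
  classical
  haveI : CompactSpace (V : Scheme.{u}) := isCompact_iff_compactSpace.1 hV
  haveI : QuasiCompact (f' ≫ g') := by rw [hfg]; infer_instance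
  haveI : QuasiCompact f' := QuasiCompact.of_comp f' g'
  let ιY := (f ⁻¹ᵁ V).ι
  let g := g' ≫ V.ι
  have hw : ιY ≫ f = f' ≫ g := by
    show ιY ≫ f = f' ≫ g' ≫ V.ι
    rw [← Category.assoc, hfg, morphismRestrict_ι]
  obtain ⟨E, κ, hκ, U, A, n, σ, hAU, i, rr, hUV, hU, hA, hcov, hiff, hr, hcl⟩ := exists_gen_data V.ι g' hL₀
  let L := CohB1.tensorPow L₀ (E + 1)
  have hL₀i := isInvertible_of_isRelAmple hL₀
  have hL : PicF.IsInvertible L := isInvertible_tensorPow hL₀i _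
  let ε := powS ε₀ (E + 1)
  haveI : IsIso ((Scheme.Modules.pullback f').map ε) := by
    rw [S17892.isIso_map_iff f' hL, genLocus_powS hL₀i, ← S17892.isIso_map_iff f' hL₀i]
    exact hε₀
  haveI : IsIso (pullS f' ε) := by unfold pullS; infer_instance
  let F := (Scheme.Modules.pushforward f).obj (Coh.structureModule Y)
  let B := (Scheme.Modules.pushforward g).obj L
  let C := (Scheme.Modules.pushforward g).obj ((Scheme.Modules.pushforward f').obj
    (Coh.structureModule (f ⁻¹ᵁ V : Y.Opens).toScheme))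
  haveI : Coh.IsQCoh (Coh.structureModule Y) := InvExt.isQCoh_of_isInvertible isInvertible_structureModule
  haveI : Coh.IsQCoh L := InvExt.isQCoh_of_isInvertible hL
  haveI : Coh.IsQCoh (Coh.structureModule (f ⁻¹ᵁ V : Y.Opens).toScheme) :=
    InvExt.isQCoh_of_isInvertible isInvertible_structureModule
  haveI : CompactSpace X' := QuasiCompact.compactSpace_of_compactSpace g'
  haveI : QuasiSeparatedSpace (V : Scheme.{u}) := quasiSeparatedSpace_of_quasiSeparated V.ι
  haveI : QuasiSeparatedSpace X' := quasiSeparatedSpace_of_quasiSeparated g'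
  haveI : QuasiCompact g := quasiCompact_of_compactSpace g
  haveI : QuasiSeparated g := inferInstance
  haveI : QuasiSeparated (f' ≫ g') := by rw [hfg]; infer_instance
  haveI : QuasiSeparated f' := QuasiSeparated.of_comp f' g'
  haveI hFq : Coh.IsQCoh F := QCohLib.isQCoh_pushforward _ f
  haveI hBq : Coh.IsQCoh B := QCohLib.isQCoh_pushforward L g
  haveI : Coh.IsQCoh ((Scheme.Modules.pushforward f').obj (Coh.structureModule (f ⁻¹ᵁ V : Y.Opens).toScheme)) :=
    QCohLib.isQCoh_pushforward _ f'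
  haveI hCq : Coh.IsQCoh C := QCohLib.isQCoh_pushforward _ g
  let a : F ⟶ C := resFun f ιY (f' ≫ g) hw ≫ (Scheme.Modules.pushforwardComp f' g).inv.app _
  let b : B ⟶ C := (Scheme.Modules.pushforward g).map (triv f' ε)
  have hleY : ∀ U : X.Opens, f' ⁻¹ᵁ (g ⁻¹ᵁ U) ≤ ιY ⁻¹ᵁ (f ⁻¹ᵁ U) := fun U => by
    rw [← Scheme.Hom.comp_preimage, ← Scheme.Hom.comp_preimage, hw]
  have ha : ∀ (U : X.Opens) (x : Γ(Y, f ⁻¹ᵁ U)), a.app U (strS x) =
      strS (ιY.appLE (f ⁻¹ᵁ U) (f' ⁻¹ᵁ (g ⁻¹ᵁ U)) (hleY U) x) := fun U x => rfl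
  let G := kernel (biprod.desc a (-b))
  haveI : Coh.IsQCoh G := (QCohLib.isQCoh_image _ (isQCoh_biprod' hFq hBq) hCq).1
  have hglob : ∀ U : X.Opens, a.app U (strS (1 : Γ(Y, f ⁻¹ᵁ U))) = b.app U (resT (sec ε) (g ⁻¹ᵁ U)) := fun U => by
    rw [ha, map_one]
    exact (triv_app_res_sec f' ε (g ⁻¹ᵁ U)).symm
  have hlift : ∀ (j : κ) (y : Γ(L, g ⁻¹ᵁ U j)), ∃ x : Γ(Y, f ⁻¹ᵁ U j),
      a.app (U j) (strS x) = b.app (U j) y := fun j y => by
    have hW : ιY ''ᵁ (f' ⁻¹ᵁ (g ⁻¹ᵁ U j)) = f ⁻¹ᵁ U j := by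
      rw [← Scheme.Hom.comp_preimage, ← hw, Scheme.Hom.comp_preimage, Scheme.Hom.image_preimage_eq_opensRange_inf,
        Scheme.Opens.opensRange_ι, inf_eq_right]
      exact f.preimage_mono ((hUV j).trans V.opensRange_ι.le)
    let z : Γ((f ⁻¹ᵁ V : Y.Opens).toScheme, f' ⁻¹ᵁ (g ⁻¹ᵁ U j)) := (triv f' ε).app (g ⁻¹ᵁ U j) y
    refine ⟨Y.presheaf.map (homOfLE hW.ge).op ((ιY.appIso _).inv z), ?_⟩
    rw [ha]
    refine congrArg strS ?_
    rw [← CommRingCat.comp_apply, Scheme.Hom.map_appLE, ← Scheme.Hom.appIso_hom']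
    exact Iso.inv_hom_id_apply (ιY.appIso _) z
  choose xlift hxlift using hlift
  obtain ⟨t, ht⟩ := isCompact_univ.elim_finite_subcover (fun W : X.affineOpens => ((W : X.Opens) : Set X))
    (fun W => (W : X.Opens).2) fun y _ => by
      obtain ⟨_, ⟨W, hW, rfl⟩, hy, -⟩ :=
        X.isBasis_affineOpens.exists_subset_of_mem_open (Set.mem_univ y) isOpen_univ
      exact Set.mem_iUnion.2 ⟨⟨W, hW⟩, hy⟩
  choose z₁ hz₁ using fun W : X.Opens => exists_pair_section a b W _ _ (hglob W)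
  choose z₂ hz₂ using fun (q : Σ j : κ, Fin (n j + 1)) =>
    exists_pair_section a b (U q.1) (strS (xlift q.1 (σ q.1 q.2))) (σ q.1 q.2) (hxlift q.1 (σ q.1 q.2))
  obtain ⟨M, iM, hM, hft, hinj, hpre⟩ := exists_ft_through (M := G)
    (ι := (Σ j : κ, Fin (n j + 1)) ⊕ t)
    (Sum.elim (fun q => U q.1) fun W => W.1.1)
    (fun q => match q with
      | .inl q => hU q.1
      | .inr W => W.1.2)
    (fun q => match q with
      | .inl q => z₂ q
      | .inr W => z₁ W.1.1)
  haveI := hM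
  choose m₀ hm₀ using hpre
  obtain ⟨e, he⟩ := exists_section_of_cover iM hinj (z₁ ⊤) (fun W : t => W.1.1)
    (eq_top_iff.2 fun x _ => by
      obtain ⟨W, hWt, hx⟩ := Set.mem_iUnion₂.1 (ht (Set.mem_univ x))
      exact Opens.mem_iSup.2 ⟨⟨W, hWt⟩, hx⟩)
    (fun W => m₀ (.inr W))
    fun W => by
      refine (hm₀ (.inr W)).trans ?_
      show z₁ W.1.1 = G.presheaf.map (homOfLE le_top).op (z₁ ⊤)
      have hmono : ∀ (O : X.Opens) (z z' : Γ(G, O)),
          (kernel.ι (biprod.desc a (-b)) ≫ biprod.fst).app O z = (kernel.ι (biprod.desc a (-b)) ≫ biprod.fst).app O z' →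
          (kernel.ι (biprod.desc a (-b)) ≫ biprod.snd).app O z = (kernel.ι (biprod.desc a (-b)) ≫ biprod.snd).app O z' → z = z' := by
        intro O z z' h₁ h₂
        let S : ShortComplex X.Modules := ShortComplex.mk (kernel.ι (biprod.desc a (-b)))
          (cokernel.π (kernel.ι (biprod.desc a (-b)))) (cokernel.condition _)
        have hS : S.ShortExact := ShortComplex.ShortExact.mk'
          (ShortComplex.exact_of_g_is_cokernel _ (cokernelIsCokernel _)) inferInstance inferInstance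
        refine QCohLib.app_injective hS O ?_
        have key : ∀ w : Γ(F ⊞ B, O), w = (biprod.inl : F ⟶ F ⊞ B).app O ((biprod.fst : F ⊞ B ⟶ F).app O w) +
            (biprod.inr : B ⟶ F ⊞ B).app O ((biprod.snd : F ⊞ B ⟶ B).app O w) := fun w => by
          show w = ((biprod.fst ≫ biprod.inl : F ⊞ B ⟶ F ⊞ B) + biprod.snd ≫ biprod.inr).app O w
          rw [biprod.total]
          rfl
        show (kernel.ι (biprod.desc a (-b))).app O z = (kernel.ι (biprod.desc a (-b))).app O z'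
        rw [key ((kernel.ι (biprod.desc a (-b))).app O z), key ((kernel.ι (biprod.desc a (-b))).app O z')]
        exact congrArg₂ (fun p q => (biprod.inl : F ⟶ F ⊞ B).app O p + (biprod.inr : B ⟶ F ⊞ B).app O q) h₁ h₂
      apply hmono
      · rw [(hz₁ _).1, DCohLib.app_natural, (hz₁ _).1]
        exact (map_one (Y.presheaf.map (homOfLE (f.preimage_mono le_top)).op).hom).symm
      · rw [(hz₁ _).2, DCohLib.app_natural, (hz₁ _).2]
        exact (ParaFLib.res_res _ _ _).symm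
  let σF : M ⟶ F := iM ≫ kernel.ι (biprod.desc a (-b)) ≫ biprod.fst
  let σL : M ⟶ B := iM ≫ kernel.ι (biprod.desc a (-b)) ≫ biprod.snd
  have hrel : σF ≫ a = σL ≫ b := by
    have := kernel.condition (biprod.desc a (-b))
    simp only [σF, σL, Category.assoc]
    refine congrArg (iM ≫ ·) ?_
    rw [← sub_eq_zero, ← Preadditive.comp_sub]
    refine Eq.trans ?_ this
    congr 1
    refine biprod.hom_ext' _ _ ?_ ?_ <;> simp
  have rel : ∀ (O : X.Opens) (m : Γ(M, O)), (triv f' ε).app (g ⁻¹ᵁ O) (σL.app O m) =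
      strS (ιY.appLE (f ⁻¹ᵁ O) (f' ⁻¹ᵁ (g ⁻¹ᵁ O)) (hleY O) (σF.app O m)) := fun O m =>
    (congr($(hrel).app O m)).symm.trans (ha O _)
  have heF : σF.app ⊤ e = strS (1 : Γ(Y, f ⁻¹ᵁ ⊤)) := by
    show (kernel.ι (biprod.desc a (-b)) ≫ biprod.fst).app ⊤ (iM.app ⊤ e) = _
    rw [he]
    exact (hz₁ ⊤).1
  obtain ⟨P, p, O1, φ, ⟨D⟩⟩ := exists_bundle hM
  haveI := D.isProper hft
  have hbij : ∀ (y : Y) (hy : f y ∈ (⊤ : X.Opens)),
      Function.Bijective fun c : Y.presheaf.stalk y => c • germφ σF y hy e := fun y hy => by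
    unfold germφ
    rw [heF]
    exact (gen_one (f ⁻¹ᵁ (⊤ : X.Opens))).bijective_germ y hy
  obtain ⟨k, hk, -⟩ := D.existsUnique_compat_of_gens (g := f) isInvertible_structureModule (σ := σF)
    fun y => ⟨⊤, trivial, e, hbij y trivial⟩
  have hkp : k ≫ p = f := hk.1.trans (Category.id_comp f)
  let mσ : ∀ j, Fin (n j + 1) → Γ(M, U j) := fun j q => m₀ (.inl ⟨j, q⟩)
  have hmσ : ∀ j q, σL.app (U j) (mσ j q) = σ j q := fun j q => by
    show (kernel.ι (biprod.desc a (-b)) ≫ biprod.snd).app (U j) (iM.app (U j) (m₀ (.inl ⟨j, q⟩))) = _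
    exact (congrArg ((kernel.ι (biprod.desc a (-b)) ≫ biprod.snd).app (U j)) (hm₀ (.inl ⟨j, q⟩))).trans (hz₂ ⟨j, q⟩).2
  have hiff' : ∀ j (x : X') (hx : x ∈ g ⁻¹ᵁ U j), x ∈ A j ↔
      Function.Bijective fun c : X'.presheaf.stalk x => c • germφ σL x hx (mσ j (i j)) := fun j x hx => by
    unfold germφ
    rw [hmσ]
    exact hiff j x hx
  have hgensL : Gens σL := fun x => by
    obtain ⟨j, hj⟩ := hcov x
    exact ⟨U j, hAU j hj, mσ j (i j), (hiff' j x (hAU j hj)).1 hj⟩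
  obtain ⟨k', hk', -⟩ := D.existsUnique_compat_of_gens (g := g) hL (σ := σL) hgensL
  have hk'p : k' ≫ p = g := hk'.1.trans (Category.id_comp g)
  have hcomp : f' ≫ k' = ιY ≫ k := by
    refine Compat.eq D (hgensL.affine hM hL) ?_ (compat_of_rel f' ιY hw hL ε rel hk)
    simpa only [Category.comp_id] using hk'.precomp f'
  haveI : IsImmersion k' := isImmersion_of_ratios D hk' U hU A hA hAU hcov n mσ i hiff' rr
    (fun j q => by rw [hmσ, hmσ]; exact hr j q) hcl
  let O := p ⁻¹ᵁ V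
  let kV : X' ⟶ (O : Scheme.{u}) := IsOpenImmersion.lift O.ι k' (by
    rintro _ ⟨x, rfl⟩
    rw [Scheme.Opens.range_ι]
    show p (k' x) ∈ V
    rw [← Scheme.Hom.comp_apply, hk'p]
    exact (g' x).2)
  have hkV : kV ≫ O.ι = k' := IsOpenImmersion.lift_fac _ _ _
  haveI : IsImmersion (kV ≫ O.ι) := by rw [hkV]; infer_instance
  haveI : IsImmersion kV := IsImmersion.of_comp kV O.ι
  have hkVp : kV ≫ (p ∣_ V) = g' := by
    rw [← cancel_mono V.ι, Category.assoc, morphismRestrict_ι, ← Category.assoc, hkV, hk'p]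
  haveI : IsProper (kV ≫ (p ∣_ V)) := by rw [hkVp]; infer_instance
  haveI : IsProper kV := IsProper.of_comp kV (p ∣_ V)
  haveI : IsClosedImmersion kV := IsClosedImmersion.of_isPreimmersion kV kV.isClosedMap.isClosed_range
  have hpre : f ⁻¹ᵁ V = k ⁻¹ᵁ O := by rw [← Scheme.Hom.comp_preimage, hkp]
  haveI : QuasiCompact (k ≫ p) := by rw [hkp]; infer_instance
  haveI : QuasiCompact k := QuasiCompact.of_comp k p
  obtain ⟨r, hr, hrange, hr₁, hr₂⟩ := exists_image_open k O kV f' (Y.isoOfEq hpre).hom (by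
    rw [← cancel_mono O.ι, Category.assoc, Category.assoc, morphismRestrict_ι, hkV, Scheme.isoOfEq_hom_ι_assoc]
    exact hcomp.symm)
  have hO1 := D.isInvertible_O1
  let s₀ := secHom O1 (φ.app ⊤ e)
  have hkZ : k ⁻¹ᵁ CohB1.genLocus O1 s₀ = ⊤ := eq_top_iff.2 fun y _ => by
    show k y ∈ CohB1.genLocus O1 s₀
    rw [mem_genLocus_iff hO1, sec_secHom]
    exact (hk.2 ⊤ e y trivial trivial).1.2 (hbij y trivial)
  refine ⟨k.image, k.toImage, k.imageι ≫ p, r,
    ⟨SchDenseLib.toImage_dominant k, inferInstance, by rw [← Category.assoc, k.toImage_imageι, hkp],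
      (Scheme.Modules.pullback k.imageι).obj O1, pullS k.imageι s₀,
      D.isRelAmple_pullback k.imageι rfl k.imageι.isEmbedding.isInducing, ?_⟩, hr, ?_, ?_, ?_⟩
  · rw [S17892.isIso_map_iff _ (isInvertible_pullback _ hO1), genLocus_pullS _ hO1, ← Scheme.Hom.comp_preimage,
      k.toImage_imageι, hkZ]
  · rw [Scheme.Hom.comp_preimage]
    exact hrange
  · rw [← Category.assoc, hr₁, hkV, hk'p]
  · rw [hr₂, Scheme.isoOfEq_hom_ι_assoc]

end Groth.Agent.YBlowLib
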