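import Groth.Agent.YBlowLib.Completion
import Groth.Agent.AffBlowLib.Geom

/-!
# The completion can be taken through a given modification
-/

set_option autoImplicit false
set_option linter.style.haveILetI false
set_option backward.isDefEq.respectTransparency false
set_option maxHeartbeats 1000000

universe u

open CategoryTheory CategoryTheory.Limits AlgebraicGeometry TopologicalSpace Opposite

noncomputable section

namespace Groth.Agent.YBlowLib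

variable {X Y X' : Scheme.{u}}

/-- Restriction of functions. -/
theorem res_comp_apply {T : Scheme.{u}} {a b c : T.Opens} (h₁ : b ≤ a) (h₂ : c ≤ b) (r : Γ(T, a)) :
    T.presheaf.map (homOfLE h₂).op (T.presheaf.map (homOfLE h₁).op r) =
      T.presheaf.map (homOfLE (h₂.trans h₁)).op r := by
  rw [← CommRingCat.comp_apply, ← Functor.map_comp]
  rfl

/-- The finitely many functions on `f⁻¹(V)` needed to factor `f'` over the piece over `V`. -/
theorem exists_local_data (f : Y ⟶ X) [IsAffineHom f] (f' : Y ⟶ X') (g' : X' ⟶ X) [LocallyOfFiniteType g']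
    (hf' : f' ≫ g' = f) {V : X.Opens} (hV : IsAffineOpen V) :
    ∃ S : Finset Γ(Y, f ⁻¹ᵁ V), ∀ {Q : Scheme.{u}} (fQ : Y ⟶ Q) (g : Q ⟶ X) [IsSchemeTheoreticallyDominant fQ]
      [QuasiCompact fQ] (_ : fQ ≫ g = f) (O : Q.Opens) (_ : O ≤ g ⁻¹ᵁ V) (heq : f ⁻¹ᵁ V ≤ fQ ⁻¹ᵁ O)
      (_ : fQ ⁻¹ᵁ O ≤ f ⁻¹ᵁ V) (_ : ∀ s ∈ S, ∃ c, fQ.appLE O (f ⁻¹ᵁ V) heq c = s),
      ∀ z ∈ O, ∃ N : Q.Opens, z ∈ N ∧ N ≤ O ∧ ∃ τ : (N : Scheme.{u}) ⟶ X',
        τ ≫ g' = N.ι ≫ g ∧ (fQ ∣_ N) ≫ τ = (fQ ⁻¹ᵁ N).ι ≫ f' := by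
  classical
  have hfV : IsAffineOpen (f ⁻¹ᵁ V) := hV.preimage f
  have loc : ∀ y : (f ⁻¹ᵁ V : Y.Opens), ∃ (b : Γ(Y, f ⁻¹ᵁ V)) (W : X'.Opens) (_ : IsAffineOpen W)
      (_ : W ≤ g' ⁻¹ᵁ V), y.1 ∈ Y.basicOpen b ∧ Y.basicOpen b ≤ f' ⁻¹ᵁ W := fun y => by
    have hy : f' y.1 ∈ g' ⁻¹ᵁ V := by
      show g' (f' y.1) ∈ V
      rw [← Scheme.Hom.comp_apply, hf']
      exact y.2
    obtain ⟨_, ⟨W, hW, rfl⟩, hyW, hWV⟩ :=
      X'.isBasis_affineOpens.exists_subset_of_mem_open hy (g' ⁻¹ᵁ V).2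
    obtain ⟨b, hb, hyb⟩ := hfV.exists_basicOpen_le (V := f' ⁻¹ᵁ W) ⟨y.1, hyW⟩ y.2
    exact ⟨b, W, hW, hWV, hyb, hb⟩
  choose b W hW hWV hyb hbW using loc
  obtain ⟨t, ht⟩ := hfV.isCompact.elim_finite_subcover (fun y => ((Y.basicOpen (b y) : Y.Opens) : Set Y))
    (fun y => (Y.basicOpen (b y)).2) fun y hy => Set.mem_iUnion.2 ⟨⟨y, hy⟩, hyb ⟨y, hy⟩⟩
  have hspan : Ideal.span (b '' (t : Set _)) = ⊤ := by
    rw [← hfV.self_le_iSup_basicOpen_iff]
    intro y hy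
    obtain ⟨j, hjt, hj⟩ := Set.mem_iUnion₂.1 (ht hy)
    exact Opens.mem_iSup.2 ⟨⟨b j, j, hjt, rfl⟩, hj⟩
  have hone : (1 : Γ(Y, f ⁻¹ᵁ V)) ∈ Submodule.span Γ(Y, f ⁻¹ᵁ V) (b '' (t : Set _)) := by
    show (1 : Γ(Y, f ⁻¹ᵁ V)) ∈ Ideal.span _
    rw [hspan]; trivial
  obtain ⟨c, hc⟩ := (Submodule.mem_span_image_finset_iff_exists_fun _).1 hone
  have hgen : ∀ y, ∃ (G : Finset Γ(X', W y)) (x : Γ(X', W y) → Γ(Y, f ⁻¹ᵁ V)) (m : Γ(X', W y) → ℕ),
      Subring.closure (Set.range (g'.appLE V (W y) (hWV y)).hom ∪ (G : Set Γ(X', W y))) = ⊤ ∧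
      ∀ r, (f'.appLE (W y) (Y.basicOpen (b y)) (hbW y)) r *
          Y.presheaf.map (homOfLE (Y.basicOpen_le (b y))).op (b y) ^ m r =
        Y.presheaf.map (homOfLE (Y.basicOpen_le (b y))).op (x r) := fun y => by
    have hft := g'.finiteType_appLE hV (hW y) (hWV y)
    letI := (g'.appLE V (W y) (hWV y)).hom.toAlgebra
    haveI : Algebra.FiniteType Γ(X, V) Γ(X', W y) := hft
    obtain ⟨G, hG⟩ := Algebra.FiniteType.out (R := Γ(X, V)) (A := Γ(X', W y))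
    letI := (Y.presheaf.map (homOfLE (Y.basicOpen_le (b y))).op).hom.toAlgebra
    haveI : IsLocalization.Away (b y) Γ(Y, Y.basicOpen (b y)) := hfV.isLocalization_basicOpen (b y)
    choose m x hx using fun r => IsLocalization.Away.surj (S := Γ(Y, Y.basicOpen (b y))) (b y)
      (f'.appLE (W y) (Y.basicOpen (b y)) (hbW y) r)
    refine ⟨G, x, m, ?_, hx⟩
    rw [eq_top_iff]
    intro r _
    have hr : r ∈ Algebra.adjoin Γ(X, V) (G : Set Γ(X', W y)) := by rw [hG]; trivial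
    exact Algebra.mem_adjoin_iff.1 hr
  choose G x m hG hx using hgen
  refine ⟨t.image b ∪ Finset.univ.image c ∪ t.biUnion fun y => (G y).image (x y),
    fun {Q} fQ g _ _ hfQ O hO heq hge hS z hz => ?_⟩
  let ρ := fQ.appLE O (f ⁻¹ᵁ V) heq
  have hρ : Function.Injective ρ := fun r r' h => by
    refine fQ.app_injective O ?_
    have : ∀ (M : Y.Opens) (e : M = fQ ⁻¹ᵁ O) (e' : M ≤ fQ ⁻¹ᵁ O),
        fQ.appLE O M e' r = fQ.appLE O M e' r' → fQ.app O r = fQ.app O r' := by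
      rintro M rfl e' he
      rw [Scheme.Hom.app_eq_appLE]
      exact he
    exact this _ (le_antisymm heq hge) heq h
  choose b' hb' using fun y : t => hS (b y.1) (by simp only [Finset.mem_union, Finset.mem_image]
                                                  exact Or.inl (Or.inl ⟨y.1, y.2, rfl⟩))
  choose c' hc' using fun y => hS (c y) (by simp)
  have hsum : ∑ y, c' y * b' y = 1 := hρ (by
    rw [map_sum, map_one, ← hc]
    refine Finset.sum_congr rfl fun y _ => ?_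
    rw [map_mul]
    show ρ (c' y) * ρ (b' y) = _
    rw [show ρ (c' y) = c y from hc' y, show ρ (b' y) = b y.1 from hb' y]
    rfl)
  obtain ⟨y, hy⟩ : ∃ y : t, z ∈ Q.basicOpen (b' y) := by
    by_contra hne
    push Not at hne
    have h1 : Q.presheaf.germ O z hz (∑ y, c' y * b' y) ∈ IsLocalRing.maximalIdeal (Q.presheaf.stalk z) := by
      rw [map_sum]
      refine Ideal.sum_mem _ fun y _ => ?_
      rw [map_mul]
      refine Ideal.mul_mem_left _ _ ?_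
      rw [IsLocalRing.mem_maximalIdeal]
      exact fun h => hne y ((Q.mem_basicOpen (b' y) z hz).2 h)
    rw [hsum, map_one] at h1
    exact (IsLocalRing.mem_maximalIdeal _).1 h1 isUnit_one
  let N := Q.basicOpen (b' y)
  let M := fQ ⁻¹ᵁ N
  have hM : M ≤ Y.basicOpen (b y.1) := by
    have e : Y.basicOpen (b y.1) = f ⁻¹ᵁ V ⊓ fQ ⁻¹ᵁ N := by
      rw [← hb' y, Scheme.preimage_basicOpen, Scheme.Hom.appLE, CommRingCat.comp_apply, Scheme.basicOpen_res]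
    rw [e]
    exact le_inf ((fQ.preimage_mono (Q.basicOpen_le _)).trans hge) le_rfl
  have hMV : M ≤ f ⁻¹ᵁ V := hM.trans (Y.basicOpen_le _)
  have hMW : M ≤ f' ⁻¹ᵁ W y.1 := hM.trans (hbW y.1)
  let ρN := fQ.app N
  have hρN : Function.Injective ρN := fQ.app_injective N
  have hres : ∀ r : Γ(Q, O), ρN (Q.presheaf.map (homOfLE (Q.basicOpen_le (b' y))).op r) =
      Y.presheaf.map (homOfLE hMV).op (ρ r) := fun r => by
    show fQ.app N _ = Y.presheaf.map (homOfLE hMV).op (fQ.appLE O (f ⁻¹ᵁ V) heq r)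
    rw [← CommRingCat.comp_apply, ← CommRingCat.comp_apply, Scheme.Hom.app_eq_appLE, Scheme.Hom.map_appLE]
    exact (ConcreteCategory.congr_hom (Scheme.Hom.appLE_map fQ heq (homOfLE hMV).op) r).symm
  let φ := f'.appLE (W y.1) M hMW
  have hφmem : ∀ r, φ r ∈ ρN.hom.range := fun r => by
    have hr : r ∈ Subring.closure (Set.range (g'.appLE V (W y.1) (hWV y.1)).hom ∪ (G y.1 : Set Γ(X', W y.1))) := by
      rw [hG y.1]; trivial
    refine (Subring.closure_le (t := ρN.hom.range.comap φ.hom)).2 ?_ hr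
    rintro r (⟨a, rfl⟩ | hrG)
    · refine ⟨g.appLE V N ((Q.basicOpen_le _).trans hO) a, ?_⟩
      show ρN (g.appLE V N _ a) = φ (g'.appLE V (W y.1) _ a)
      simp only [ρN, φ, Scheme.Hom.app_eq_appLE, ← CommRingCat.comp_apply, Scheme.Hom.appLE_comp_appLE, hfQ, hf']
      rfl
    · obtain ⟨x', hx'⟩ := hS (x y.1 r) (by
        simp only [Finset.mem_union, Finset.mem_biUnion, Finset.mem_image]
        exact Or.inr ⟨y.1, y.2, r, hrG, rfl⟩)
      have hu : IsUnit (Q.presheaf.map (homOfLE (Q.basicOpen_le (b' y))).op (b' y) : Γ(Q, N)) :=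
        RingedSpace.isUnit_res_basicOpen Q.toRingedSpace (b' y)
      obtain ⟨v, hv⟩ := (hu.pow (m y.1 r)).exists_right_inv
      refine ⟨Q.presheaf.map (homOfLE (Q.basicOpen_le (b' y))).op x' * v, ?_⟩
      show ρN _ = φ r
      have e1 := congrArg (Y.presheaf.map (homOfLE hM).op) (hx y.1 r)
      have eb := (congrArg (Y.presheaf.map (homOfLE hMV).op) (hb' y)).symm.trans rfl
      rw [map_mul, map_pow, res_comp_apply, res_comp_apply, ← CommRingCat.comp_apply, Scheme.Hom.appLE_map,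
        eb, ← hres, ← hx', ← hres] at e1
      rw [map_mul, ← e1, mul_assoc, ← map_pow, ← map_mul]
      erw [hv]
      rw [map_one, mul_one]
  let ψ : Γ(X', W y.1) ⟶ Γ(Q, N) := CommRingCat.ofHom
    (((RingEquiv.ofBijective ρN.hom.rangeRestrict
      ⟨fun a a' h => hρN (congrArg Subtype.val h), ρN.hom.rangeRestrict_surjective⟩).symm.toRingHom).comp
      (φ.hom.codRestrict ρN.hom.range hφmem))
  have hψ : ∀ r, ρN (ψ r) = φ r := fun r => congrArg Subtype.val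
    ((RingEquiv.ofBijective ρN.hom.rangeRestrict
      ⟨fun a a' h => hρN (congrArg Subtype.val h), ρN.hom.rangeRestrict_surjective⟩).apply_symm_apply
      ⟨φ r, hφmem r⟩)
  refine ⟨N, hy, Q.basicOpen_le _, N.toSpecΓ ≫ Spec.map ψ ≫ (hW y.1).fromSpec, ?_, ?_⟩
  · rw [ProjBundleLib.ι_comp_eq g hV (V := N) ((Q.basicOpen_le _).trans hO), Category.assoc, Category.assoc,
      ← IsAffineOpen.SpecMap_appLE_fromSpec g' hV (hW y.1) (hWV y.1), ← Spec.map_comp_assoc]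
    congr 3
    refine CommRingCat.hom_ext (RingHom.ext fun a => hρN ?_)
    show ρN (ψ (g'.appLE V (W y.1) _ a)) = ρN (g.appLE V N _ a)
    rw [hψ]
    simp only [ρN, φ, Scheme.Hom.app_eq_appLE, ← CommRingCat.comp_apply, Scheme.Hom.appLE_comp_appLE, hfQ, hf']
    rfl
  · rw [ProjBundleLib.ι_comp_eq f' (hW y.1) (V := M) hMW, ← Scheme.Opens.toSpecΓ_naturality_assoc,
      ← Spec.map_comp_assoc]
    congr 3
    exact CommRingCat.hom_ext (RingHom.ext hψ)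

/-- A completion on whose locus `f'` is defined. -/
theorem exists_completion_over (f : Y ⟶ X) [CompactSpace X] [QuasiSeparatedSpace X] [IsAffineHom f]
    (f' : Y ⟶ X') (g' : X' ⟶ X) [LocallyOfFiniteType g'] [IsSeparated g'] (hf' : f' ≫ g' = f) :
    ∃ (Q : Scheme.{u}) (fQ : Y ⟶ Q) (g : Q ⟶ X) (L : Q.Modules) (ε : Coh.structureModule Q ⟶ L),
      IsSchemeTheoreticallyDominant fQ ∧ IsProper g ∧ fQ ≫ g = f ∧ RelAmple.IsRelAmple g L ∧
        fQ ⁻¹ᵁ CohB1.genLocus L ε = ⊤ ∧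
        ∃ (τ : (CohB1.genLocus L ε : Scheme.{u}) ⟶ X') (fZ : Y ⟶ (CohB1.genLocus L ε : Scheme.{u})),
          fZ ≫ (CohB1.genLocus L ε).ι = fQ ∧ τ ≫ g' = (CohB1.genLocus L ε).ι ≫ g ∧ fZ ≫ τ = f' := by
  classical
  obtain ⟨t, ht⟩ := isCompact_univ.elim_finite_subcover (fun V : X.affineOpens => ((V : X.Opens) : Set X))
    (fun V => (V : X.Opens).2) fun y _ => by
      obtain ⟨_, ⟨V, hV, rfl⟩, hy, -⟩ :=
        X.isBasis_affineOpens.exists_subset_of_mem_open (Set.mem_univ y) isOpen_univ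
      exact Set.mem_iUnion.2 ⟨⟨V, hV⟩, hy⟩
  choose S hS using fun V : t => exists_local_data f f' g' hf' V.1.2
  obtain ⟨Q, fQ, g, L, ε, hdom, hg, hfQ, hL, hloc, hs⟩ := exists_completion f
    (fun a : (Σ V : t, S V) => a.1.1.1) (fun a => a.1.1.2) (fun a => a.2.1)
  haveI := hdom
  haveI := hg
  haveI : QuasiCompact (fQ ≫ g) := by rw [hfQ]; infer_instance
  haveI : QuasiCompact fQ := QuasiCompact.of_comp fQ g
  let Z := CohB1.genLocus L ε
  have hpre : ∀ V : X.Opens, fQ ⁻¹ᵁ (Z ⊓ g ⁻¹ᵁ V) = f ⁻¹ᵁ V := fun V => by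
    rw [Scheme.Hom.preimage_inf, hloc, top_inf_eq, ← Scheme.Hom.comp_preimage, hfQ]
  have key : ∀ z ∈ Z, ∃ N : Q.Opens, z ∈ N ∧ N ≤ Z ∧ ∃ τ : (N : Scheme.{u}) ⟶ X',
      τ ≫ g' = N.ι ≫ g ∧ (fQ ∣_ N) ≫ τ = (fQ ⁻¹ᵁ N).ι ≫ f' := fun z hz => by
    obtain ⟨V, hVt, hzV⟩ := Set.mem_iUnion₂.1 (ht (Set.mem_univ (g z)))
    obtain ⟨N, h1, h2, h3⟩ := hS ⟨V, hVt⟩ fQ g hfQ (Z ⊓ g ⁻¹ᵁ V.1) inf_le_right (hpre _).ge (hpre _).le
      (fun s hs' => by
        obtain ⟨c, e, hce⟩ := hs ⟨⟨V, hVt⟩, s, hs'⟩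
        exact ⟨c, hce⟩) z ⟨hz, hzV⟩
    exact ⟨N, h1, h2.trans inf_le_left, h3⟩
  choose N hzN hNZ τ hτ hτ' using fun z : Z => key z.1 z.2
  let fZ : Y ⟶ (Z : Scheme.{u}) := IsOpenImmersion.lift Z.ι fQ (by
    rintro _ ⟨y, rfl⟩
    rw [Scheme.Opens.range_ι]
    exact hloc.ge (show y ∈ (⊤ : Y.Opens) from trivial))
  have hfZ : fZ ≫ Z.ι = fQ := IsOpenImmersion.lift_fac _ _ _
  haveI : QuasiCompact (fZ ≫ Z.ι) := by rw [hfZ]; infer_instance
  haveI : QuasiCompact fZ := QuasiCompact.of_comp fZ Z.ι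
  haveI : IsSchemeTheoreticallyDominant fZ := by
    refine IsSchemeTheoreticallyDominant.of_isPullback (f := fQ) (g := Z.ι) (pX := 𝟙 Y)
      (IsOpenImmersion.isPullback fZ (𝟙 Y) Z.ι fQ (by rw [hfZ, Category.id_comp]) ?_).flip
    rw [Scheme.Opens.opensRange_ι, Scheme.Hom.opensRange_of_isIso]
    exact hloc
  let 𝒰 := (Z : Scheme.{u}).openCoverOfIsOpenCover (fun z : Z => Z.ι ⁻¹ᵁ N z)
    (eq_top_iff.2 fun z _ => Opens.mem_iSup.2 ⟨z, hzN z⟩)
  obtain ⟨m, hm⟩ : ∃ m : ∀ z : Z, ((Z.ι ⁻¹ᵁ N z : (Z : Scheme.{u}).Opens) : Scheme.{u}) ⟶ X',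
      ∀ z, m z = (Z.ι ∣_ N z) ≫ τ z := ⟨_, fun _ => rfl⟩
  have hmg : ∀ z, m z ≫ g' = (Z.ι ⁻¹ᵁ N z).ι ≫ Z.ι ≫ g := fun z => by
    rw [hm, Category.assoc, hτ]
    rw [morphismRestrict_ι_assoc]
  have hmf : ∀ (z : Z) {A : Scheme.{u}} (a : A ⟶ Y) (b : A ⟶ (Z.ι ⁻¹ᵁ N z : (Z : Scheme.{u}).Opens)),
      a ≫ fZ = b ≫ (Z.ι ⁻¹ᵁ N z).ι → b ≫ m z = a ≫ f' := fun z A a b h => by
    let a₀ : A ⟶ (fQ ⁻¹ᵁ N z : Y.Opens) := IsOpenImmersion.lift (fQ ⁻¹ᵁ N z).ι a (by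
      rintro _ ⟨w, rfl⟩
      rw [Scheme.Opens.range_ι]
      show fQ (a w) ∈ N z
      rw [← hfZ, ← Scheme.Hom.comp_apply, ← Category.assoc, h, Category.assoc]
      exact (b w).2)
    have ha₀ : a₀ ≫ (fQ ⁻¹ᵁ N z).ι = a := IsOpenImmersion.lift_fac _ _ _
    have e : b ≫ (Z.ι ∣_ N z) = a₀ ≫ (fQ ∣_ N z) := by
      rw [← cancel_mono (N z).ι, Category.assoc, Category.assoc, morphismRestrict_ι, morphismRestrict_ι,
        ← Category.assoc a₀, ha₀, ← Category.assoc, ← h, Category.assoc, hfZ]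
    rw [hm]
    rw [← Category.assoc, e, Category.assoc, hτ' z, ← Category.assoc, ha₀]
  have hcompat : ∀ z z' : Z, pullback.fst (𝒰.f z) (𝒰.f z') ≫ m z = pullback.snd (𝒰.f z) (𝒰.f z') ≫ m z' := by
    intro z z'
    let i : pullback (𝒰.f z) (𝒰.f z') ⟶ (Z : Scheme.{u}) := pullback.fst (𝒰.f z) (𝒰.f z') ≫ 𝒰.f z
    refine AffBlowLib.eq_of_dominant (pullback.snd fZ i) _ _ g' ?_ ?_
    · rw [Category.assoc, Category.assoc, hmg, hmg]
      exact pullback.condition_assoc (f := 𝒰.f z) (g := 𝒰.f z') _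
    · rw [← Category.assoc, ← Category.assoc,
        hmf z (pullback.fst fZ i) (pullback.snd fZ i ≫ pullback.fst _ _) (by
          rw [pullback.condition, Category.assoc]; rfl),
        hmf z' (pullback.fst fZ i) (pullback.snd fZ i ≫ pullback.snd _ _) (by
          rw [pullback.condition, Category.assoc]
          exact congrArg _ pullback.condition)]
  refine ⟨Q, fQ, g, L, ε, hdom, hg, hfQ, hL, hloc, 𝒰.glueMorphisms m hcompat, fZ, hfZ, ?_, ?_⟩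
  · refine 𝒰.hom_ext _ _ fun (z : Z) => ?_
    rw [← Category.assoc, 𝒰.ι_glueMorphisms]
    exact hmg z
  · refine Scheme.Cover.hom_ext (𝒰.pullback₁ fZ) _ _ fun (z : Z) => ?_
    show pullback.fst fZ (𝒰.f z) ≫ fZ ≫ _ = pullback.fst fZ (𝒰.f z) ≫ f'
    rw [← Category.assoc, pullback.condition, Category.assoc, 𝒰.ι_glueMorphisms]
    exact hmf z _ _ pullback.condition

end Groth.Agent.YBlowLib
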