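import Groth.Agent.AmpleEmb.SectionsGe
import Groth.Agent.AmpleLib.Rel
import Groth.Agent.AmpleLib.RelLocal
import Groth.Agent.AmpleLib.GenLocus
import Groth.Agent.ParaFLib.ExtendMain

/-!
# Sections with affine loci and generating ratios for a relatively ample module, one exponent for all pieces
-/

set_option autoImplicit false
set_option linter.style.haveILetI false
set_option backward.isDefEq.respectTransparency false
set_option maxHeartbeats 1000000

universe u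

open CategoryTheory CategoryTheory.Limits AlgebraicGeometry TopologicalSpace Opposite
open Groth.Agent.AmpleLib
open Groth.Agent.ParaFLib (Gen res_res res_self exists_gen_nhd isInvertible_structureModule)

noncomputable section

namespace Groth.Agent.YBlowLib

variable {X S T : Scheme.{u}}

/-- A section with invertible germ generates near the point. -/
theorem exists_gen_of_bijective {P : T.Modules} (hP : PicF.IsInvertible P) {O : T.Opens} (v : Γ(P, O)) {x : T}
    (hx : x ∈ O) (hb : Function.Bijective fun c : T.presheaf.stalk x => c • P.presheaf.germ O x hx v) :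
    ∃ (N : T.Opens) (hN : N ≤ O), x ∈ N ∧ Gen N (P.presheaf.map (homOfLE hN).op v) := by
  obtain ⟨W, e, hxW, he⟩ := exists_gen_nhd hP x
  have he' := he.res (inf_le_left : W ⊓ O ≤ W)
  obtain ⟨a, ha⟩ := (he' (W ⊓ O) le_rfl).2 (P.presheaf.map (homOfLE inf_le_right).op v)
  change a • _ = _ at ha
  rw [res_self] at ha
  have hxA : x ∈ W ⊓ O := ⟨hxW, hx⟩
  have hu : IsUnit (T.presheaf.germ (W ⊓ O) x hxA a) := by
    rw [← bijective_smul_iff (he'.bijective_germ x hxA), ← ParaFLib.germ_smul', ha,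
      TopCat.Presheaf.germ_res_apply]
    exact hb
  refine ⟨T.basicOpen a, (T.basicOpen_le a).trans inf_le_right, (T.mem_basicOpen a x hxA).2 hu, ?_⟩
  have h2 := (he'.res (T.basicOpen_le a)).smul (RingedSpace.isUnit_res_basicOpen T.toRingedSpace a)
  have e2 := congrArg (P.presheaf.map (homOfLE (T.basicOpen_le a)).op) ha
  rw [P.map_smul, res_res] at e2
  rw [res_res] at h2
  erw [e2] at h2
  rw [res_res] at h2
  exact h2

/-- For a relatively ample module, one power has on finitely many pieces sections with affine loci covering the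
source and with ratios generating over the base. -/
theorem exists_gen_data (j : S ⟶ X) [IsOpenImmersion j] [CompactSpace S] (g : T ⟶ S) [LocallyOfFiniteType g]
    {L₀ : T.Modules} (h : RelAmple.IsRelAmple g L₀) :
    ∃ (E : ℕ) (κ : Type u) (_ : Finite κ) (U : κ → X.Opens) (D : κ → T.Opens) (n : κ → ℕ)
      (σ : ∀ k, Fin (n k + 1) → Γ(CohB1.tensorPow L₀ (E + 1), (g ≫ j) ⁻¹ᵁ U k))
      (hD : ∀ k, D k ≤ (g ≫ j) ⁻¹ᵁ U k) (i : ∀ k, Fin (n k + 1)) (r : ∀ k, Fin (n k + 1) → Γ(T, D k)),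
      (∀ k, U k ≤ j.opensRange) ∧ (∀ k, IsAffineOpen (U k)) ∧ (∀ k, IsAffineOpen (D k)) ∧
      (∀ x : T, ∃ k, x ∈ D k) ∧
      (∀ k (x : T) (hx : x ∈ (g ≫ j) ⁻¹ᵁ U k), x ∈ D k ↔ Function.Bijective fun c : T.presheaf.stalk x =>
        c • (CohB1.tensorPow L₀ (E + 1)).presheaf.germ _ x hx (σ k (i k))) ∧
      (∀ k a, r k a • (CohB1.tensorPow L₀ (E + 1)).presheaf.map (homOfLE (hD k)).op (σ k (i k)) =
        (CohB1.tensorPow L₀ (E + 1)).presheaf.map (homOfLE (hD k)).op (σ k a)) ∧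
      ∀ k, Subring.closure (Set.range ((g ≫ j).appLE (U k) (D k) (hD k)).hom ∪ Set.range (r k)) = ⊤ := by
  classical
  have hL := isInvertible_of_isRelAmple h
  obtain ⟨t, ht⟩ := isCompact_univ.elim_finite_subcover (fun V : S.affineOpens => ((V : S.Opens) : Set S))
    (fun V => (V : S.Opens).2) fun y _ => by
      obtain ⟨_, ⟨V, hV, rfl⟩, hy, -⟩ :=
        S.isBasis_affineOpens.exists_subset_of_mem_open (Set.mem_univ y) isOpen_univ
      exact Set.mem_iUnion.2 ⟨⟨V, hV⟩, hy⟩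
  choose N hN using fun U' : t => AmpleEmb.exists_sections_ge (g ∣_ U'.1.1) (h.2 U'.1)
    (isInvertible_structureModule (X := (g ⁻¹ᵁ U'.1.1 : T.Opens).toScheme))
  let E := Finset.univ.sup N
  let P := CohB1.tensorPow L₀ (E + 1)
  have hP : PicF.IsInvertible P := isInvertible_tensorPow hL _
  choose Q iso hQ n s τ G haff hτ hcov hgen using
    fun U' : t => hN U' (E + 1) ((Finset.le_sup (Finset.mem_univ U')).trans (Nat.le_succ _))
  let θ : ∀ U' : t, Q U' ≅ P.restrict (g ⁻¹ᵁ U'.1.1).ι := fun U' =>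
    iso U' ≪≫ unitR _ ≪≫ (restrictPow _ L₀ (E + 1)).symm
  let κ := Σ U' : t, {i : ULift.{u} (Fin (n U' + 1)) // i.down ∈ G U'}
  choose Vb hVb hle hsurj using fun k : κ => hgen k.1 k.2.1.down k.2.2
  let ι : ∀ k : κ, ((g ⁻¹ᵁ k.1.1.1 : T.Opens) : Scheme.{u}) ⟶ T := fun k => (g ⁻¹ᵁ k.1.1.1).ι
  let A : κ → S.Opens := fun k => k.1.1.1.ι ''ᵁ Vb k
  have hpre : ∀ k, (g ≫ j) ⁻¹ᵁ (j ''ᵁ A k) ≤ (g ⁻¹ᵁ k.1.1.1).ι ''ᵁ ⊤ := fun k => by
    rw [Scheme.Hom.comp_preimage, j.preimage_image_eq, Scheme.Opens.ι_image_top]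
    exact g.preimage_mono (Scheme.Opens.ι_image_le _ _)
  let D : κ → T.Opens := fun k => (g ⁻¹ᵁ k.1.1.1).ι ''ᵁ CohB1.genLocus (Q k.1) (s k.1 k.2.1.down)
  have hD : ∀ k, D k ≤ (g ≫ j) ⁻¹ᵁ (j ''ᵁ A k) := fun k => by
    rw [Scheme.Hom.comp_preimage, j.preimage_image_eq]
    rintro _ ⟨w, hw, rfl⟩
    refine ⟨(g ∣_ k.1.1.1) w, hle k hw, ?_⟩
    exact congrArg (fun f : ((g ⁻¹ᵁ k.1.1.1 : T.Opens) : Scheme.{u}) ⟶ S => f w) (morphismRestrict_ι g k.1.1.1)
  let v : ∀ k : κ, Fin (n k.1 + 1) → Γ(P, (g ⁻¹ᵁ k.1.1.1).ι ''ᵁ ⊤) := fun k a =>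
    ((θ k.1).hom.app ⊤ (sec (s k.1 a)) :)
  let σ : ∀ k : κ, Fin (n k.1 + 1) → Γ(P, (g ≫ j) ⁻¹ᵁ (j ''ᵁ A k)) := fun k a =>
    P.presheaf.map (homOfLE (hpre k)).op (v k a)
  let r : ∀ k : κ, Fin (n k.1 + 1) → Γ(T, D k) := fun k a =>
    ((g ⁻¹ᵁ k.1.1.1).ι.appIso _).inv (τ k.1 k.2.1.down a)
  have hgenD : ∀ k, Gen (D k) (P.presheaf.map (homOfLE (hD k)).op (σ k k.2.1.down)) := fun k => by
    have h0 := ParaFLib.gen_of_modIso (θ k.1) (AmpleEmb.gen_genLocus (hQ k.1) (s k.1 k.2.1.down))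
    rw [resT, DCohLib.app_natural (θ k.1).hom le_top] at h0
    have h1 := (gen_restrict_iff _ P _ _).1 h0
    simp only [σ, res_res]
    exact h1
  refine ⟨E, κ, inferInstance, fun k => j ''ᵁ A k, D, fun k => n k.1, σ, hD, fun k => k.2.1.down, r,
    fun k => j.image_le_opensRange _, fun k => ?_, fun k => (haff k.1 _).image_of_isOpenImmersion _,
    fun x => ?_, fun k x hx => ⟨fun hxD => ?_, fun hb => ?_⟩, fun k a => ?_, fun k => ?_⟩
  · exact ((hVb k).image_of_isOpenImmersion _).image_of_isOpenImmersion _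
  · obtain ⟨U', hU't, hxU⟩ := Set.mem_iUnion₂.1 (ht (Set.mem_univ (g x)))
    obtain ⟨i, hiG, hi⟩ := hcov ⟨U', hU't⟩ ⟨x, hxU⟩
    exact ⟨⟨⟨U', hU't⟩, ⟨i⟩, hiG⟩, _, hi, rfl⟩
  · have hb := (hgenD k).bijective_germ x hxD
    rwa [TopCat.Presheaf.germ_res_apply] at hb
  · obtain ⟨w, -, rfl⟩ := hpre k hx
    obtain ⟨M, hM, hwM, hMg⟩ := exists_gen_of_bijective hP _ hx hb
    rw [show σ k k.2.1.down = P.presheaf.map (homOfLE (hpre k)).op (v k k.2.1.down) from rfl, res_res] at hMg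
    refine ⟨w, ?_, rfl⟩
    let b := (g ⁻¹ᵁ k.1.1.1).ι ⁻¹ᵁ M
    have hb' : (g ⁻¹ᵁ k.1.1.1).ι ''ᵁ b ≤ M := by rintro _ ⟨z, hz, rfl⟩; exact hz
    have h1 : Gen (L := P.restrict (g ⁻¹ᵁ k.1.1.1).ι) b
        (resT (L := P.restrict (g ⁻¹ᵁ k.1.1.1).ι) (sec (s k.1 k.2.1.down ≫ (θ k.1).hom)) b) := by
      refine (gen_restrict_iff _ P _ _).2 ?_
      have := hMg.res hb'
      rw [res_res] at this
      exact this
    have h2 := mem_genLocus_iff'.2 ⟨b, hwM, h1⟩
    rwa [genLocus_comp_iso] at h2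
  · have e1 := congrArg ((θ k.1).hom.app _) (hτ k.1 k.2.1.down a)
    rw [Scheme.Modules.Hom.app_smul] at e1
    rw [resT, resT, DCohLib.app_natural (θ k.1).hom le_top, DCohLib.app_natural (θ k.1).hom le_top] at e1
    simp only [σ, P, res_res]
    exact e1
  · let U' := k.1.1.1
    let W := g ⁻¹ᵁ U'
    let G' := CohB1.genLocus (Q k.1) (s k.1 k.2.1.down)
    let e := (W.ι.appIso G').hom
    have hbe : Function.Bijective e := ConcreteCategory.bijective_of_isIso e
    let c₁ := (U'.ι ≫ j).appLE (j ''ᵁ A k) (Vb k) (by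
      rw [Scheme.Hom.comp_preimage, j.preimage_image_eq]
      exact (U'.ι.preimage_image_eq (Vb k)).ge)
    have hc₁ : Function.Surjective c₁ := by
      have h1 : Function.Surjective (U'.ι.appLE (A k) (Vb k) (U'.ι.preimage_image_eq (Vb k)).ge) := by
        rw [← Scheme.Hom.appIso_hom']
        exact (ConcreteCategory.bijective_of_isIso (U'.ι.appIso (Vb k)).hom).2
      have h2 : Function.Surjective (j.appLE (j ''ᵁ A k) (A k) (j.preimage_image_eq (A k)).ge) := by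
        rw [← Scheme.Hom.appIso_hom']
        exact (ConcreteCategory.bijective_of_isIso (j.appIso (A k)).hom).2
      have h3 := h1.comp h2
      intro y
      obtain ⟨x, hx⟩ := h3 y
      refine ⟨x, ?_⟩
      rw [← hx, Function.comp_apply, ← CommRingCat.comp_apply, Scheme.Hom.appLE_comp_appLE]
    have hcompat : ∀ c, e ((g ≫ j).appLE (j ''ᵁ A k) (D k) (hD k) c) =
        (g ∣_ U').appLE (Vb k) G' (hle k) (c₁ c) := fun c => by
      simp only [e, c₁, Scheme.Hom.appIso_hom']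
      show ((g ≫ j).appLE _ _ _ ≫ W.ι.appLE _ _ _) c = ((U'.ι ≫ j).appLE _ _ _ ≫ (g ∣_ U').appLE _ _ _) c
      erw [Scheme.Hom.appLE_comp_appLE, Scheme.Hom.appLE_comp_appLE]
      simp only [U', W, morphismRestrict_ι_assoc]
    rw [eq_top_iff]
    intro z _
    obtain ⟨p, hp⟩ := hsurj k (e z)
    have key : ∀ p, ∃ y ∈ Subring.closure (Set.range ((g ≫ j).appLE (j ''ᵁ A k) (D k) (hD k)).hom ∪
        Set.range (r k)), e y = MvPolynomial.eval₂Hom ((g ∣_ U').appLE (Vb k) G' (hle k)).hom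
          (τ k.1 k.2.1.down) p := fun p => by
      induction p using MvPolynomial.induction_on with
      | C c =>
        obtain ⟨c', rfl⟩ := hc₁ c
        exact ⟨_, Subring.subset_closure (Or.inl ⟨c', rfl⟩),
          (hcompat c').trans (MvPolynomial.eval₂Hom_C _ _ _).symm⟩
      | add p q hp hq =>
        obtain ⟨y, hy, ey⟩ := hp
        obtain ⟨y', hy', ey'⟩ := hq
        exact ⟨y + y', add_mem hy hy', by rw [map_add, map_add, ey, ey']⟩
      | mul_X p a hp =>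
        obtain ⟨y, hy, ey⟩ := hp
        refine ⟨y * r k a, mul_mem hy (Subring.subset_closure (Or.inr ⟨a, rfl⟩)), ?_⟩
        rw [map_mul, map_mul, ey, MvPolynomial.eval₂Hom_X']
        exact congrArg (_ * ·) (Iso.inv_hom_id_apply (W.ι.appIso G') _)
    obtain ⟨y, hy, ey⟩ := key p
    rwa [hbe.1 (ey.trans hp)] at hy

end Groth.Agent.YBlowLib
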