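import Groth.Agent.YBlowLib.Trivial
import Groth.Agent.ProjBundleLib.FTSub

/-!
# A morphism to a bundle restricted to an open factors through a trivialised quotient
-/

set_option autoImplicit false
set_option linter.style.haveILetI false
set_option backward.isDefEq.respectTransparency false
set_option maxHeartbeats 1000000

universe u

open CategoryTheory CategoryTheory.Limits AlgebraicGeometry TopologicalSpace Opposite
open Groth.Agent.AmpleLib Groth.Agent.PullbackMod Groth.Agent.ProjBundleLib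
open Groth.Agent.ParaFLib (oneG bijective_oneG)

noncomputable section

namespace Groth.Agent.YBlowLib

variable {X Y W : Scheme.{u}}

/-- Restriction of functions along `ι`, as a map of direct images. -/
def resFun (f : Y ⟶ X) (ι : W ⟶ Y) (h : W ⟶ X) (e : ι ≫ f = h) :
    (Scheme.Modules.pushforward f).obj (Coh.structureModule Y) ⟶
      (Scheme.Modules.pushforward h).obj (Coh.structureModule W) where
  val := PresheafOfModules.homMk
    { app := fun U => AddCommGrpCat.ofHom
        (ι.appLE (f ⁻¹ᵁ U.unop) (h ⁻¹ᵁ U.unop) (by rw [← e, Scheme.Hom.comp_preimage])).hom.toAddMonoidHom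
      naturality := fun U V i => by
        ext s
        show ι.appLE _ _ _ (Y.presheaf.map _ s) = W.presheaf.map _ (ι.appLE _ _ _ s)
        rw [← CommRingCat.comp_apply, ← CommRingCat.comp_apply, Scheme.Hom.map_appLE, Scheme.Hom.appLE_map]
        rfl }
    fun U r s => by
      subst e
      show ι.appLE _ _ _ (f.app U.unop r * (show Γ(Y, f ⁻¹ᵁ U.unop) from s)) =
        (ι ≫ f).app U.unop r * ι.appLE (f ⁻¹ᵁ U.unop) ((ι ≫ f) ⁻¹ᵁ U.unop) _ (show Γ(Y, f ⁻¹ᵁ U.unop) from s)
      rw [map_mul, ← CommRingCat.comp_apply, Scheme.Hom.app_eq_appLE, Scheme.Hom.appLE_comp_appLE,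
        Scheme.Hom.app_eq_appLE]

theorem resFun_app (f : Y ⟶ X) (ι : W ⟶ Y) (h : W ⟶ X) (e : ι ≫ f = h) (U : X.Opens) (r : Γ(Y, f ⁻¹ᵁ U)) :
    (resFun f ι h e).app U (strS r) =
      strS (ι.appLE (f ⁻¹ᵁ U) (h ⁻¹ᵁ U) (by rw [← e, Scheme.Hom.comp_preimage]) r) := rfl

variable {P T : Scheme.{u}} {p : P ⟶ X} {E : X.Modules} {O1 : P.Modules}
  {φ : E ⟶ (Scheme.Modules.pushforward p).obj O1}

/-- If two quotients agree on an open of the source through a trivialisation, so do the morphisms. -/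
theorem compat_of_rel {f : Y ⟶ X} {g : T ⟶ X} (f' : W ⟶ T) (ι : W ⟶ Y) [IsOpenImmersion ι]
    (hw : ι ≫ f = f' ≫ g) {L : T.Modules} (hL : PicF.IsInvertible L) (ε : Coh.structureModule T ⟶ L)
    [IsIso (pullS f' ε)] {σF : E ⟶ (Scheme.Modules.pushforward f).obj (Coh.structureModule Y)}
    {σL : E ⟶ (Scheme.Modules.pushforward g).obj L}
    (rel : ∀ (U : X.Opens) (m : Γ(E, U)), (triv f' ε).app (g ⁻¹ᵁ U) (σL.app U m) =
      strS (ι.appLE (f ⁻¹ᵁ U) (f' ⁻¹ᵁ (g ⁻¹ᵁ U))
        (by rw [← Scheme.Hom.comp_preimage, ← Scheme.Hom.comp_preimage, hw]) (σF.app U m)))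
    {k : Y ⟶ P} (hk : Compat φ σF (𝟙 Y) k) : Compat φ σL f' (ι ≫ k) := by
  have hkp : k ≫ p = f := hk.1.trans (Category.id_comp f)
  refine ⟨by rw [Category.assoc, hkp, hw], fun V e₀ t hy hx => ?_⟩
  have hy' : f (ι t) ∈ V := by
    rw [← Scheme.Hom.comp_apply, hw]
    exact hx
  obtain ⟨h1, h2⟩ := hk.2 V e₀ (ι t) hy hy'
  haveI : IsIso (ι.stalkMap t) := inferInstance
  have hs : Function.Bijective (ι.stalkMap t) := ConcreteCategory.bijective_of_isIso _
  let u : Γ(E, V) → Y.presheaf.stalk (ι t) := fun m =>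
    Y.presheaf.germ (f ⁻¹ᵁ V) (ι t) hy' (show Γ(Y, f ⁻¹ᵁ V) from σF.app V m)
  have hF : ∀ m, germφ σF (ι t) hy' m = u m • oneG (ι t) := fun m => germ_str (ι t) hy' _
  have hΨ : ∀ m, trivGerm f' ε t (germφ σL (f' t) hx m) = ι.stalkMap t (u m) • oneG t := fun m => by
    refine (trivGerm_germ f' ε t hx (σL.app V m)).trans ?_
    rw [rel V m, germ_str]
    exact congrArg (· • oneG t) (germ_stalkMap_congr ι _ t hx _).symm
  have hgen : (Function.Bijective fun c : Y.presheaf.stalk (ι t) => c • germφ σF (ι t) hy' e₀) ↔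
      Function.Bijective fun c : T.presheaf.stalk (f' t) => c • germφ σL (f' t) hx e₀ := by
    rw [← bijective_trivGerm_iff f' ε hL, hΨ, hF, bijective_smul_iff (bijective_oneG _),
      bijective_smul_iff (bijective_oneG _)]
    exact ⟨fun h => h.map (ι.stalkMap t).hom, fun h => isUnit_of_map_unit (ι.stalkMap t).hom _ h⟩
  refine ⟨h1.trans hgen, fun e c c' hb hc hc' => ?_⟩
  obtain ⟨c'', hc''⟩ := hs.2 (f'.stalkMap t c')
  have h3 : c'' • germφ σF (ι t) hy' e₀ = germφ σF (ι t) hy' e := by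
    rw [hF, hF, ← mul_smul]
    refine congrArg (· • oneG (ι t)) (hs.1 ((bijective_oneG t).1 ?_))
    show ι.stalkMap t (c'' * u e₀) • oneG t = ι.stalkMap t (u e) • oneG t
    rw [map_mul, hc'', mul_smul, ← hΨ, ← hΨ, ← trivGerm_smul]
    exact congrArg _ hc'
  rw [stalkMap_comp', h2 e c c'' (hgen.2 hb) hc h3, Scheme.Hom.stalkMap_id]
  exact hc''

end Groth.Agent.YBlowLib
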