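import Groth.Agent.YBlowLib.GenData
import Groth.Agent.S17892
import Groth.Agent.ProjBundleLib.Quot

/-!
# The map to functions given by a trivialising section
-/

set_option autoImplicit false
set_option linter.style.haveILetI false
set_option backward.isDefEq.respectTransparency false
set_option maxHeartbeats 1000000

universe u

open CategoryTheory CategoryTheory.Limits AlgebraicGeometry TopologicalSpace Opposite
open Groth.Agent.AmpleLib Groth.Agent.PullbackMod
open Groth.Agent.ParaFLib (Gen res_res res_self oneG bijective_oneG gen_one exists_gen_nhd exists_stalk_gen)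

noncomputable section

namespace Groth.Agent.YBlowLib

/-- A function as a section of the structure module. -/
abbrev strS {A : Scheme.{u}} {O : A.Opens} (r : Γ(A, O)) : Γ(Coh.structureModule A, O) :=
  show Γ(Coh.structureModule A, O) from r

/-- The germ of a function in the structure module. -/
theorem germ_str {A : Scheme.{u}} {O : A.Opens} (x : A) (hx : x ∈ O) (r : Γ(A, O)) :
    (Coh.structureModule A).presheaf.germ O x hx (strS r) = A.presheaf.germ O x hx r • oneG x := by
  have h1 : oneG x = (Coh.structureModule A).presheaf.germ O x hx (strS (1 : Γ(A, O))) := by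
    rw [oneG, ← TopCat.Presheaf.germ_res_apply _ (homOfLE (le_top : O ≤ ⊤)) x hx]
    exact congrArg _ (map_one (A.presheaf.map (homOfLE (le_top : O ≤ ⊤)).op).hom)
  rw [h1, ← ParaFLib.germ_smul']
  exact congrArg _ (mul_one r).symm

variable {A B : Scheme.{u}} (f : A ⟶ B) {L : B.Modules} (ε : Coh.structureModule B ⟶ L)

theorem unit_comp_map [IsIso (pullS f ε)] :
    ε ≫ (Scheme.Modules.pullbackPushforwardAdjunction f).unit.app L ≫
        (Scheme.Modules.pushforward f).map (inv (pullS f ε)) =
      SheafOfModules.unitToPushforwardObjUnit f.toRingCatSheafHom := by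
  have h2 : (Scheme.Modules.pullbackPushforwardAdjunction f).homEquiv _ _ (pullO f).hom =
      SheafOfModules.unitToPushforwardObjUnit f.toRingCatSheafHom :=
    Equiv.apply_symm_apply _ _
  refine Eq.trans ?_ ((Adjunction.homEquiv_unit _ _ _ _).symm.trans h2)
  rw [← Category.assoc]
  erw [(Scheme.Modules.pullbackPushforwardAdjunction f).unit.naturality ε]
  rw [Category.assoc]
  congr 1
  rw [Functor.comp_map, ← Functor.map_comp]
  refine congrArg _ ?_
  rw [← cancel_mono (pullS f ε), Category.assoc, IsIso.inv_hom_id, Category.comp_id, pullS, Iso.hom_inv_id_assoc]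

variable [IsIso (pullS f ε)]

/-- The trivialisation, as a map to functions on the source. -/
def triv : L ⟶ (Scheme.Modules.pushforward f).obj (Coh.structureModule A) :=
  (Scheme.Modules.pullbackPushforwardAdjunction f).unit.app L ≫
    (Scheme.Modules.pushforward f).map (inv (pullS f ε))

theorem triv_app_res_sec (U : B.Opens) :
    (triv f ε).app U (resT (sec ε) U) = (show Γ(Coh.structureModule A, f ⁻¹ᵁ U) from (1 : Γ(A, f ⁻¹ᵁ U))) := by
  have h := congrArg (fun φ : Coh.structureModule B ⟶ (Scheme.Modules.pushforward f).obj (Coh.structureModule A) =>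
    φ.app U (strS (1 : Γ(B, U)))) (unit_comp_map f ε)
  refine Eq.trans (congrArg ((triv f ε).app U) ?_) (h.trans (map_one (f.app U).hom))
  exact DCohLib.app_one_natural ε le_top

/-- The trivialisation on stalks. -/
def trivGerm (t : A) (v : L.presheaf.stalk (f t)) : (Coh.structureModule A).presheaf.stalk t :=
  stalkLin (inv (pullS f ε)) t (pullStalk f L t v)

theorem trivGerm_smul (t : A) (c : B.presheaf.stalk (f t)) (v : L.presheaf.stalk (f t)) :
    trivGerm f ε t (c • v) = f.stalkMap t c • trivGerm f ε t v := by
  rw [trivGerm, pullStalk_smul, LinearMap.map_smul]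
  rfl

theorem trivGerm_germ {U : B.Opens} (t : A) (ht : f t ∈ U) (s : Γ(L, U)) :
    trivGerm f ε t (L.presheaf.germ U (f t) ht s) =
      (Coh.structureModule A).presheaf.germ (f ⁻¹ᵁ U) t ht ((triv f ε).app U s) := by
  rw [trivGerm, pullStalk_germ' f L t ht ht le_rfl, stalkLin_germ]
  refine congrArg ((Coh.structureModule A).presheaf.germ _ t ht) ?_
  exact congrArg ((inv (pullS f ε)).app _) (res_self _ _)

theorem bijective_trivGerm_iff (hL : PicF.IsInvertible L) (t : A) (v : L.presheaf.stalk (f t)) :
    (Function.Bijective fun c : A.presheaf.stalk t => c • trivGerm f ε t v) ↔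
      Function.Bijective fun c : B.presheaf.stalk (f t) => c • v := by
  haveI := InvExt.isQCoh_of_isInvertible hL
  have hgen : ∀ w : L.presheaf.stalk (f t), (Function.Bijective fun c : B.presheaf.stalk (f t) => c • w) →
      Function.Bijective fun c : A.presheaf.stalk t => c • trivGerm f ε t w := fun w hw => by
    unfold trivGerm
    exact (ProjBundleLib.bijective_smul_comp _).2 (bijective_pullStalk f t hw)
  obtain ⟨e, he⟩ := exists_stalk_gen hL (f t)
  obtain ⟨a, rfl⟩ := he.2 v
  rw [trivGerm_smul, bijective_smul_iff (hgen e he), bijective_smul_iff he]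
  exact ⟨fun h => isUnit_of_map_unit (f.stalkMap t).hom a h, fun h => h.map (f.stalkMap t).hom⟩

theorem triv_app_injective [IsSchemeTheoreticallyDominant f] [QuasiCompact f] (hL : PicF.IsInvertible L)
    (U : B.Opens) : Function.Injective ((triv f ε).app U) := by
  rw [injective_iff_map_eq_zero]
  intro s hs
  haveI := InvExt.isQCoh_of_isInvertible hL
  refine TopCat.Presheaf.section_ext (⟨L.presheaf, L.isSheaf⟩ : TopCat.Sheaf Ab B) U _ _ fun x hx => ?_
  obtain ⟨W, e, hxW, he⟩ := exists_gen_nhd hL x
  have he' := he.res (inf_le_left : W ⊓ U ≤ W)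
  obtain ⟨a, ha⟩ := (he' (W ⊓ U) le_rfl).2 (L.presheaf.map (homOfLE inf_le_right).op s)
  change a • _ = _ at ha
  rw [res_self] at ha
  have h0 : (triv f ε).app (W ⊓ U) (a • L.presheaf.map (homOfLE inf_le_left).op e) = 0 := by
    rw [ha, DCohLib.app_natural, hs, map_zero]
  rw [Scheme.Modules.Hom.app_smul] at h0
  have ha0 : a = 0 := by
    refine f.app_injective _ ?_
    rw [map_zero]
    refine TopCat.Presheaf.section_ext A.sheaf _ _ _ fun z hz => ?_
    have h1 := congrArg ((Coh.structureModule A).presheaf.germ _ z hz) h0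
    erw [ParaFLib.germ_smul', ← trivGerm_germ f ε z hz, map_zero] at h1
    have hb := (bijective_trivGerm_iff f ε hL z _).2 (he'.bijective_germ (f z) hz)
    exact (hb.1 (h1.trans (zero_smul _ _).symm)).trans (map_zero _).symm
  show L.presheaf.germ U x hx s = L.presheaf.germ U x hx 0
  rw [← TopCat.Presheaf.germ_res_apply L.presheaf (homOfLE (inf_le_right : W ⊓ U ≤ U)) x ⟨hxW, hx⟩ s, ← ha, ha0,
    zero_smul, map_zero, map_zero]

end Groth.Agent.YBlowLib
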